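import Cfsg.Agent.AmalgamTwelve.Model

/-!
A group of order 432 with a self-centralising normal plane is the affine group, in given coordinates.
-/

set_option autoImplicit false
set_option linter.unusedSectionVars false
set_option maxRecDepth 10000

namespace Cfsg.Lib.AmalgamTwelve

open Subgroup Cfsg.Lib.Order9 Cfsg.Lib.GLTwoThree

theorem vec_span : ∀ v : Vec, v.1.val • ((1, 0) : Vec) + v.2.val • ((0, 1) : Vec) = v := by decide

theorem app_eq : ∀ a b v : Vec, v.1.val • a + v.2.val • b = app (a, b) v := by decide +kernel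

theorem det_of_inj : ∀ M : Mt, (∀ v, app M v = 0 → v = 0) → det M ≠ 0 := by decide +kernel

variable {A : Type*} [Group A]

theorem pow_mod_three {q : A} (h : q ^ 3 = 1) (n : ℕ) : q ^ (n % 3) = q ^ n := by
  conv_rhs => rw [← Nat.mod_add_div n 3, pow_add, pow_mul, h, one_pow, mul_one]

theorem zmod_pow_add {q : A} (h : q ^ 3 = 1) (a b : ZMod 3) : q ^ (a + b).val = q ^ a.val * q ^ b.val := by
  rw [ZMod.val_add, pow_mod_three h, pow_add]

/-- coordinates of a commuting pair of elements of order three -/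
def coords {q1 q2 : A} (v : Vec) : A := q1 ^ v.1.val * q2 ^ v.2.val

theorem coords_add {q1 q2 : A} (h1 : q1 ^ 3 = 1) (h2 : q2 ^ 3 = 1) (hc : q1 * q2 = q2 * q1) (v w : Vec) :
    coords (q1 := q1) (q2 := q2) (v + w) = coords (q1 := q1) (q2 := q2) v * coords (q1 := q1) (q2 := q2) w := by
  unfold coords
  rw [Prod.fst_add, Prod.snd_add, zmod_pow_add h1, zmod_pow_add h2]
  have : Commute (q1 ^ w.1.val) (q2 ^ v.2.val) := (Commute.pow_pow hc _ _)
  calc q1 ^ v.1.val * q1 ^ w.1.val * (q2 ^ v.2.val * q2 ^ w.2.val)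
      = q1 ^ v.1.val * (q1 ^ w.1.val * q2 ^ v.2.val) * q2 ^ w.2.val := by group
    _ = _ := by rw [this.eq]; group

theorem exists_affine [Finite A] (Q : Subgroup A) [Q.Normal] (hc : IsMulCommutative Q) (h3 : ∀ x ∈ Q, x ^ 3 = 1)
    (hcard : Nat.card Q = 9) (hcent : centralizer (Q : Set A) = Q) (hA : Nat.card A = 432) {q1 q2 : A}
    (h1 : q1 ∈ Q) (h2 : q2 ∈ Q) (hne : q2 ≠ 1) (hind : q1 ∉ zpowers q2) :
    ∃ Φ : A432 ≃* A, Φ xE = q1 ∧ Φ zE = q2 ∧ ∀ m, Φ m ∈ Q ↔ m.q = 1 := by
  classical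
  have hq1 := h3 q1 h1
  have hq2 := h3 q2 h2
  have hcomm : q1 * q2 = q2 * q1 := congrArg Subtype.val (hc.is_comm.comm ⟨q1, h1⟩ ⟨q2, h2⟩)
  let ι : Vec → A := coords (q1 := q1) (q2 := q2)
  have ιadd : ∀ v w, ι (v + w) = ι v * ι w := coords_add hq1 hq2 hcomm
  have ι0 : ι 0 = 1 := by simp [ι, coords]
  have ιmem : ∀ v, ι v ∈ Q := fun v => Q.mul_mem (Q.pow_mem h1 _) (Q.pow_mem h2 _)
  have hker : ∀ v, ι v = 1 → v = 0 := by
    intro v hv
    have hi : ∀ b : ZMod 3, q2 ^ b.val = 1 → b = 0 := by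
      intro b hb
      by_contra h0
      apply hne
      rcases (by decide : ∀ b : ZMod 3, b ≠ 0 → b.val = 1 ∨ b.val = 2) b h0 with h | h
      · simpa [h] using hb
      · rw [h] at hb
        calc q2 = q2 ^ 3 * (q2 ^ 2)⁻¹ := by group
          _ = 1 := by rw [hq2, hb]; simp
    by_cases ha : v.1 = 0
    · refine Prod.ext ha (hi _ ?_)
      simpa [ι, coords, ha] using hv
    exfalso
    apply hind
    have e : q1 ^ v.1.val ∈ zpowers q2 := by
      rw [show q1 ^ v.1.val = (q2 ^ v.2.val)⁻¹ from eq_inv_of_mul_eq_one_left hv]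
      exact inv_mem (pow_mem (mem_zpowers q2) _)
    rcases (by decide : ∀ b : ZMod 3, b ≠ 0 → b.val = 1 ∨ b.val = 2) _ ha with h | h
    · simpa [h] using e
    · rw [h] at e
      have := inv_mem e
      rwa [show (q1 ^ 2)⁻¹ = q1 from inv_eq_of_mul_eq_one_left (by rw [← pow_succ']; exact hq1)] at this
  have ιinj : Function.Injective ι := fun v w h => by
    have e : ι (v - w) * ι w = ι v := by rw [← ιadd, sub_add_cancel]
    rw [← sub_eq_zero]
    refine hker _ ?_
    rw [h] at e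
    exact mul_eq_right.1 e
  have ιsurj : ∀ x ∈ Q, ∃ v, ι v = x := by
    have hb : Function.Bijective (fun v => (⟨ι v, ιmem v⟩ : Q)) :=
      (Nat.bijective_iff_injective_and_card _).2 ⟨fun v w h => ιinj (congrArg Subtype.val h), by
        rw [hcard, Nat.card_eq_fintype_card]; decide⟩
    intro x hx
    obtain ⟨v, hv⟩ := hb.2 ⟨x, hx⟩
    exact ⟨v, congrArg Subtype.val hv⟩
  choose co hco using ιsurj
  let f : A → Vec → Vec := fun a v => co (a * ι v * a⁻¹) (Subgroup.Normal.conj_mem inferInstance _ (ιmem v) a)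
  have hf : ∀ a v, ι (f a v) = a * ι v * a⁻¹ := fun a v => hco _ _
  have fadd : ∀ a v w, f a (v + w) = f a v + f a w := fun a v w => ιinj (by rw [ιadd, hf, hf, hf, ιadd]; group)
  let F : A → Vec →+ Vec := fun a => AddMonoidHom.mk' (f a) (fadd a)
  let M : A → Mt := fun a => (f a (1, 0), f a (0, 1))
  have fM : ∀ a v, f a v = app (M a) v := fun a v => by
    conv_lhs => rw [← vec_span v]
    rw [← app_eq]
    show F a _ = _
    rw [map_add, map_nsmul, map_nsmul]
    rfl
  have hdet : ∀ a, det (M a) ≠ 0 := fun a => det_of_inj _ fun v hv => hker v (by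
    have := hf a v
    rw [fM, hv, ι0] at this
    have e : a⁻¹ * 1 * a = ι v := by rw [this]; group
    simpa using e.symm)
  let ρ : A →* K48 := MonoidHom.mk' (fun a => ⟨M a, hdet a⟩) fun a b => K48.ext (by
    rw [K48.mul_m]
    refine app_inj_basis fun v => ?_
    rw [app_comp, ← fM, ← fM, ← fM]
    refine ιinj ?_
    rw [hf, hf, hf]; group)
  have hρ : ∀ a v, a * ι v * a⁻¹ = ι (app (ρ a).m v) := fun a v => by rw [← hf, fM]; rfl
  have hρQ : ∀ a, ρ a = 1 ↔ a ∈ Q := by
    intro a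
    constructor
    · intro h
      rw [← hcent, mem_centralizer_iff]
      intro x hx
      have hv : ι (co x hx) = x := hco x hx
      have e := hρ a (co x hx)
      rw [h, show (1 : K48).m = idm from rfl, app_idm, hv] at e
      exact (mul_inv_eq_iff_eq_mul.1 e).symm
    · intro ha
      refine K48.ext (app_inj_basis fun v => ιinj ?_)
      rw [← hρ, show (1 : K48).m = idm from rfl, app_idm,
        show a * ι v = ι v * a from congrArg Subtype.val (hc.is_comm.comm ⟨a, ha⟩ ⟨ι v, ιmem v⟩), mul_inv_cancel_right]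
  have hρsurj : Function.Surjective ρ := by
    have hk : ρ.ker = Q := Subgroup.ext fun a => by rw [MonoidHom.mem_ker, hρQ]
    have h := Subgroup.card_eq_card_quotient_mul_card_subgroup ρ.ker
    rw [Nat.card_congr (QuotientGroup.quotientKerEquivRange ρ).toEquiv, hk, hcard, hA] at h
    rw [← MonoidHom.range_eq_top]
    refine Subgroup.eq_top_of_card_eq _ ?_
    rw [Nat.card_eq_fintype_card (α := K48), card48]
    omega
  obtain ⟨t0, ht0⟩ := hρsurj zk
  have hinv : ∀ q ∈ Q, t0 * q * t0⁻¹ = q⁻¹ := by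
    intro q hq
    obtain ⟨v, rfl⟩ : ∃ v, ι v = q := ⟨co q hq, hco q hq⟩
    rw [hρ, ht0]
    refine eq_inv_of_mul_eq_one_left ?_
    rw [← ιadd, ← ι0]
    exact congrArg ι ((by decide : ∀ v : Vec, app zk.m v + v = 0) v)
  have ht02 : t0 * t0 = 1 := by
    have hm : t0 * t0 ∈ Q := by
      rw [← hρQ, map_mul, ht0]; decide
    have e := hinv _ hm
    rw [show t0 * (t0 * t0) * t0⁻¹ = t0 * t0 by group] at e
    have h4 : (t0 * t0) * (t0 * t0) = 1 := by
      nth_rewrite 1 [e]
      exact inv_mul_cancel _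
    calc t0 * t0 = (t0 * t0) * ((t0 * t0) * (t0 * t0)) := by rw [h4, mul_one]
      _ = (t0 * t0) ^ 3 := by simp only [pow_succ, pow_zero, one_mul, mul_assoc]
      _ = 1 := h3 _ hm
  let C : Subgroup A := centralizer {t0}
  have hCinj : ∀ c ∈ C, ρ c = 1 → c = 1 := by
    intro c hc' h
    have hq := (hρQ c).1 h
    have e := hinv c hq
    rw [← mem_centralizer_singleton_iff.1 hc', mul_inv_cancel_right] at e
    calc c = c ^ 3 * (c * c)⁻¹ := by group
      _ = 1 := by rw [h3 c hq]; nth_rewrite 1 [e]; simp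
  have hCsurj : ∀ k, ∃ c ∈ C, ρ c = k := by
    intro k
    obtain ⟨a, rfl⟩ := hρsurj k
    have hm : t0⁻¹ * (a * t0 * a⁻¹) ∈ Q := by
      rw [← hρQ, map_mul, map_inv, map_mul, map_mul, map_inv, ht0, show ρ a * zk * (ρ a)⁻¹ = zk by
        rw [zk_center, mul_inv_cancel_right], inv_mul_cancel]
    obtain ⟨q, hq, haq⟩ : ∃ q ∈ Q, a * t0 * a⁻¹ = t0 * q := ⟨_, hm, by group⟩
    refine ⟨q⁻¹ * a, ?_, by rw [map_mul, (hρQ _).2 (Q.inv_mem hq), one_mul]⟩
    rw [mem_centralizer_singleton_iff]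
    have hq3 := h3 q hq
    have h5 : t0 * q⁻¹ = q * t0 := by
      have := hinv q⁻¹ (Q.inv_mem hq)
      rw [inv_inv, mul_inv_eq_iff_eq_mul] at this
      exact this
    calc q⁻¹ * a * t0 = q⁻¹ * (a * t0 * a⁻¹) * a := by group
      _ = q⁻¹ * (t0 * q) * a := by rw [haq]
      _ = q⁻¹ * (q⁻¹ * t0) * a := by
          congr 2
          have := hinv q hq
          rw [mul_inv_eq_iff_eq_mul] at this
          exact this
      _ = q * t0 * a := by
          rw [← mul_assoc q⁻¹ q⁻¹ t0, show q⁻¹ * q⁻¹ = q by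
            calc q⁻¹ * q⁻¹ = q⁻¹ * q⁻¹ * (q ^ 3) := by rw [hq3, mul_one]
              _ = q := by group]
      _ = t0 * (q⁻¹ * a) := by rw [← h5]; group
  choose s hsC hs using hCsurj
  have smul : ∀ p r, s (p * r) = s p * s r := fun p r => by
    have := hCinj ((s (p * r))⁻¹ * (s p * s r)) (C.mul_mem (C.inv_mem (hsC _)) (C.mul_mem (hsC _) (hsC _)))
      (by rw [map_mul, map_inv, map_mul, hs, hs, hs, inv_mul_cancel])
    exact inv_mul_eq_one.1 this
  let Φ : A432 →* A := MonoidHom.mk' (fun m => ι m.v * s m.q) fun a b => by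
    show ι (a.v + app a.q.m b.v) * s (a.q * b.q) = _
    rw [ιadd, smul]
    have := hρ (s a.q) b.v
    rw [hs] at this
    rw [← this]; group
  have hΦq : ∀ m, ρ (Φ m) = m.q := fun m => by
    show ρ (ι m.v * s m.q) = m.q
    rw [map_mul, (hρQ _).2 (ιmem _), one_mul, hs]
  have hs1 : s 1 = 1 := hCinj _ (hsC 1) (hs 1)
  have hinj : Function.Injective Φ := by
    refine (injective_iff_map_eq_one _).2 fun m hm => ?_
    have hq : m.q = 1 := by rw [← hΦq, hm, map_one]
    have hv : m.v = 0 := hker _ (by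
      have : ι m.v * s m.q = 1 := hm
      rwa [hq, hs1, mul_one] at this)
    exact Aff.ext hv hq
  have hbij : Function.Bijective Φ := (Nat.bijective_iff_injective_and_card _).2 ⟨hinj, by
    rw [hA, Nat.card_eq_fintype_card, card432]⟩
  refine ⟨MulEquiv.ofBijective Φ hbij, ?_, ?_, fun m => ?_⟩
  · show ι (1, 0) * s 1 = q1
    rw [hs1, mul_one]; simp [ι, coords, ZMod.val_one]
  · show ι (0, 1) * s 1 = q2
    rw [hs1, mul_one]; simp [ι, coords, ZMod.val_one]
  · show Φ m ∈ Q ↔ m.q = 1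
    rw [← hρQ, hΦq]

end Cfsg.Lib.AmalgamTwelve
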