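import Cfsg.Agent.AmalgamTwelve.Setup
import Cfsg.Agent.S3331

/-!
The centraliser of the central involution of the complement.
-/

set_option autoImplicit false
set_option linter.unusedSectionVars false
set_option maxRecDepth 10000

namespace Cfsg.Lib.AmalgamTwelve

open Subgroup Cfsg.Lib.Order9 Cfsg.Lib.GLTwoThree

set_option synthInstance.maxSize 5000 in
set_option synthInstance.maxHeartbeats 200000 in
theorem alt_no_four : ∀ a : alternatingGroup (Fin 5), a * a = 1 → ∀ y : alternatingGroup (Fin 5), y * y * y = 1 →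
    y ≠ 1 → y * a * y⁻¹ * (y * y * a * (y * y)⁻¹) * a⁻¹ = 1 → ∀ c : alternatingGroup (Fin 5), c * c = 1 →
    c * y * c⁻¹ = y⁻¹ → c * a * c⁻¹ = a → a = 1 := by decide +kernel

set_option synthInstance.maxSize 5000 in
set_option synthInstance.maxHeartbeats 200000 in
theorem sym_no_four : ∀ a : Equiv.Perm (Fin 3), a * a = 1 → ∀ y : Equiv.Perm (Fin 3), y * y * y = 1 →
    y ≠ 1 → y * a * y⁻¹ * (y * y * a * (y * y)⁻¹) * a⁻¹ = 1 → ∀ c : Equiv.Perm (Fin 3), c * c = 1 →
    c * y * c⁻¹ = y⁻¹ → c * a * c⁻¹ = a → a = 1 := by decide +kernel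

theorem alt_cent : ∀ a : alternatingGroup (Fin 5), a * a = 1 → a ≠ 1 → ∀ c : alternatingGroup (Fin 5),
    c * a = a * c → c * c = 1 := by decide +kernel

theorem sym_cent : ∀ a : Equiv.Perm (Fin 3), a * a = 1 → a ≠ 1 → ∀ c : Equiv.Perm (Fin 3),
    c * a = a * c → c = 1 ∨ c = a := by decide +kernel

theorem seven_split : ∀ a b c d : ZMod 7, a * d - b * c = 1 → b * (a + d) = 0 → c * (a + d) = 0 →
    a * a + b * c = b * c + d * d → (b = 0 ∧ c = 0 ∧ a = d ∧ a ^ 2 = 1) ∨ d = -a := by decide +kernel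

theorem seven_witness : ∀ a b c : ZMod 7, -(a * a) - b * c = 1 → ∃ p q r : ZMod 7, ∃ s : ZMod 7,
    p * s - q * r = 1 ∧ ((-q = a * p + b * r ∧ p = a * q + b * s ∧ -s = c * p - a * r ∧ r = c * q - a * s) ∨
      (-q = -(a * p + b * r) ∧ p = -(a * q + b * s) ∧ -s = -(c * p - a * r) ∧ r = -(c * q - a * s))) := by
  decide +kernel

theorem psl_seven_conj (x y : Matrix.ProjectiveSpecialLinearGroup (Fin 2) (ZMod 7)) (hx : x * x = 1) (hx1 : x ≠ 1)
    (hy : y * y = 1) (hy1 : y ≠ 1) : ∃ g, g * x * g⁻¹ = y := by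
  let g0 : Matrix.SpecialLinearGroup (Fin 2) (ZMod 7) := ⟨!![0, 1; -1, 0], by simp [Matrix.det_fin_two]⟩
  suffices key : ∀ x : Matrix.ProjectiveSpecialLinearGroup (Fin 2) (ZMod 7), x * x = 1 → x ≠ 1 →
      ∃ h, h * QuotientGroup.mk g0 * h⁻¹ = x by
    obtain ⟨g, hg⟩ := key x hx hx1
    obtain ⟨h, hh⟩ := key y hy hy1
    exact ⟨h * g⁻¹, by rw [← hg, ← hh]; group⟩
  intro x hx hx1
  obtain ⟨g, rfl⟩ := QuotientGroup.mk_surjective x
  rw [← QuotientGroup.mk_mul, QuotientGroup.eq_one_iff, Matrix.SpecialLinearGroup.mem_center_iff] at hx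
  obtain ⟨r, -, hr⟩ := hx
  have hd : g.1 0 0 * g.1 1 1 - g.1 0 1 * g.1 1 0 = 1 := (Matrix.det_fin_two g.1).symm.trans g.2
  have he : ∀ i j, (Matrix.scalar (Fin 2) r) i j = (g.1 * g.1) i j := fun i j => by
    rw [hr]; rfl
  have h00 := he 0 0; have h01 := he 0 1; have h10 := he 1 0; have h11 := he 1 1
  simp [Matrix.mul_apply, Fin.sum_univ_two, Matrix.diagonal] at h00 h01 h10 h11
  rcases seven_split _ _ _ _ hd (by linear_combination -h01) (by linear_combination -h10)
    (by linear_combination -h00 + h11) with ⟨hb, hc, had, ha⟩ | hd'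
  · refine absurd ?_ hx1
    rw [QuotientGroup.eq_one_iff, Matrix.SpecialLinearGroup.mem_center_iff]
    refine ⟨g.1 0 0, by simpa using ha, ?_⟩
    ext i j
    fin_cases i <;> fin_cases j <;> simp [Matrix.diagonal, hb, hc, ← had]
  · obtain ⟨p, q, r', s, hdet, h⟩ := seven_witness (g.1 0 0) (g.1 0 1) (g.1 1 0) (by
      rw [hd'] at hd; linear_combination hd)
    let h0 : Matrix.SpecialLinearGroup (Fin 2) (ZMod 7) := ⟨!![p, q; r', s], by rw [Matrix.det_fin_two_of]; exact hdet⟩
    refine ⟨QuotientGroup.mk h0, ?_⟩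
    rw [mul_inv_eq_iff_eq_mul, ← QuotientGroup.mk_mul, ← QuotientGroup.mk_mul, QuotientGroup.eq,
      Matrix.SpecialLinearGroup.mem_center_iff]
    rcases h with h | h
    · refine ⟨1, one_pow _, ?_⟩
      have hm : h0 * g0 = g * h0 := by
        refine Subtype.ext ?_
        show !![p, q; r', s] * !![0, 1; -1, 0] = g.1 * !![p, q; r', s]
        ext i j
        fin_cases i <;> fin_cases j <;> simp [Matrix.mul_apply, Fin.sum_univ_two, hd'] <;>
          first | linear_combination h.1 | linear_combination h.2.1 | linear_combination h.2.2.1 | linear_combination h.2.2.2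
      rw [hm, inv_mul_cancel]
      simp
    · refine ⟨-1, by simp, ?_⟩
      have hm : h0 * g0 = -(g * h0) := by
        refine Subtype.ext ?_
        show !![p, q; r', s] * !![0, 1; -1, 0] = -(g.1 * !![p, q; r', s])
        ext i j
        fin_cases i <;> fin_cases j <;> simp [Matrix.mul_apply, Fin.sum_univ_two, hd'] <;>
          first | linear_combination h.1 | linear_combination h.2.1 | linear_combination h.2.2.1 | linear_combination h.2.2.2
      have : (h0 * g0)⁻¹ * (g * h0) = -1 := by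
        rw [inv_mul_eq_iff_eq_mul, hm]
        simp
      rw [this]
      ext i j
      fin_cases i <;> fin_cases j <;> simp [Matrix.diagonal]

theorem j_rel : jE = yE * iE * yE⁻¹ ∨ jE = yE * iE * yE⁻¹ * tE ∨ jE = yE * yE * iE * (yE * yE)⁻¹ ∨
    jE = yE * yE * iE * (yE * yE)⁻¹ * tE := by decide +kernel

theorem ie_facts : iE ≠ tE ∧ iE ≠ 1 ∧ eE ≠ tE ∧ eE * iE * eE⁻¹ = tE * iE ∧ xE ≠ tE := by decide +kernel

variable {G : Type*} [Group G]

/-- The kernel subgroup of the centraliser and its quotient. -/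
structure Cen (S : Setup G) where
  /-- the kernel -/
  F : Subgroup G
  le : F ≤ centralizer {S.ψ tE}
  tmem : S.ψ tE ∈ F
  nilp : Group.IsNilpotent F
  not3 : ¬ 3 ∣ Nat.card F
  imem : S.ψ iE ∈ F
  jmem : S.ψ jE ∈ F
  kind : (∃ φ : centralizer {S.ψ tE} →* Equiv.Perm (Fin 3), Function.Surjective φ ∧ ∀ c, φ c = 1 ↔ (c : G) ∈ F) ∨
    ((∀ f ∈ F, f * f = 1 ∨ f * f = S.ψ tE) ∧
      ∃ φ : centralizer {S.ψ tE} →* alternatingGroup (Fin 5), Function.Surjective φ ∧ ∀ c, φ c = 1 ↔ (c : G) ∈ F)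

theorem mem_cent {t g : G} : g ∈ centralizer ({t} : Set G) ↔ g * t = t * g :=
  Subgroup.mem_centralizer_singleton_iff

theorem map_comm (ψ : A432 →* G) {a b : A432} (h : a * b = b * a) : ψ a * ψ b = ψ b * ψ a := by
  rw [← map_mul, h, map_mul]

variable [Finite G]

theorem exists_cen (S : Setup G) : Nonempty (Cen S) := by
  classical
  obtain ⟨ψ, inj, -, cent_y, -⟩ := S
  show Nonempty (Cen _)
  obtain ⟨r_ty, r_te, -, r_ti, r_tj, r_ii, -, r_ey, -, -, -, -, r_prod⟩ := rels_basic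
  obtain ⟨-, -, -, -, -, r_y3, r_y1, r_tt, r_t1, r_ee, r_e1⟩ := xz_facts
  obtain ⟨r_it, r_i1, r_et, r_ei, -⟩ := ie_facts
  let C := centralizer ({ψ tE} : Set G)
  have hC : ∀ m, m * tE = tE * m → ψ m ∈ C := fun m hm => mem_cent.2 (map_comm ψ hm)
  let t : C := ⟨ψ tE, mem_cent.2 rfl⟩
  let y : C := ⟨ψ yE, hC _ r_ty.symm⟩
  let e : C := ⟨ψ eE, hC _ r_te.symm⟩
  let i : C := ⟨ψ iE, hC _ r_ti.symm⟩
  let j : C := ⟨ψ jE, hC _ r_tj.symm⟩
  have hval : ∀ a b : C, (a : G) = b → a = b := fun a b => Subtype.ext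
  have htt : t * t = 1 := hval _ _ (by show ψ tE * ψ tE = 1; rw [← map_mul, r_tt, map_one])
  have hT : ∀ c : C, c * t = t * c := fun c => hval _ _ (mem_cent.1 c.2)
  let T : Subgroup C := zpowers t
  haveI hTn : T.Normal := ⟨fun n hn g => by
    obtain ⟨k, rfl⟩ := hn
    show g * t ^ k * g⁻¹ ∈ T
    rw [(Commute.zpow_right (hT g) k).eq, mul_inv_cancel_right]
    exact ⟨k, rfl⟩⟩
  have hTmem : ∀ c : C, c ∈ T → c = 1 ∨ c = t := by
    rintro c ⟨k, rfl⟩
    show t ^ k = 1 ∨ t ^ k = t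
    rcases Int.emod_two_eq_zero_or_one k with hk | hk
    · left; rw [show k = 2 * (k / 2) by omega, zpow_mul, zpow_two, htt, one_zpow]
    · right; rw [show k = 2 * (k / 2) + 1 by omega, zpow_add, zpow_mul, zpow_two, htt, one_zpow, one_mul, zpow_one]
  have hmem1 : ∀ m (hm : ψ m ∈ C), (⟨ψ m, hm⟩ : C) ∈ T → m = 1 ∨ m = tE := fun m hm h => by
    rcases hTmem _ h with e | e
    · exact Or.inl (inj (by rw [map_one]; exact congrArg Subtype.val e))
    · exact Or.inr (inj (congrArg Subtype.val e))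
  let π : C →* C ⧸ T := QuotientGroup.mk' T
  have hπ : ∀ c, π c = 1 ↔ c ∈ T := fun c => QuotientGroup.eq_one_iff c
  have hy3 : y * y * y = 1 := hval _ _ (by show ψ yE * ψ yE * ψ yE = 1; rw [← map_mul, ← map_mul, r_y3, map_one])
  have hyT : π y ≠ 1 := fun h => by
    rcases hmem1 _ y.2 ((hπ _).1 h) with e | e
    · exact r_y1 e
    · revert e; decide +kernel
  have hyord : orderOf (π y) = 3 := by
    haveI : Fact (Nat.Prime 3) := ⟨Nat.prime_three⟩
    refine orderOf_eq_prime ?_ hyT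
    rw [← map_pow, pow_succ, pow_two, hy3, map_one]
  have hey : e * y * e⁻¹ = y⁻¹ := hval _ _ (by
    show ψ eE * ψ yE * (ψ eE)⁻¹ = (ψ yE)⁻¹
    rw [← map_inv, ← map_inv, ← map_mul, ← map_mul, r_ey])
  have hee : e * e = 1 := hval _ _ (by show ψ eE * ψ eE = 1; rw [← map_mul, r_ee, map_one])
  have hcentX : centralizer ((zpowers (π y) : Subgroup _) : Set (C ⧸ T)) = zpowers (π y) := by
    refine le_antisymm ?_ (fun a ha => mem_centralizer_iff.2 fun b hb => ?_)
    swap
    · obtain ⟨k, rfl⟩ := ha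
      obtain ⟨l, rfl⟩ := hb
      exact (Commute.zpow_zpow (Commute.refl (π y)) l k).eq
    intro a ha
    obtain ⟨c, rfl⟩ := QuotientGroup.mk_surjective a
    have hc : π y * π c = π c * π y := mem_centralizer_iff.1 ha _ (mem_zpowers _)
    have hc' : (c * y)⁻¹ * (y * c) ∈ T := by
      rw [← hπ, map_mul, map_inv, map_mul, map_mul, hc, inv_mul_cancel]
    have hcomm : c * y = y * c := by
      rcases hTmem _ hc' with e | e
      · exact (inv_mul_eq_one.1 e)
      · exfalso
        rw [inv_mul_eq_iff_eq_mul] at e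
        have h1 : c⁻¹ * y * c = y * t := by
          rw [mul_assoc, e, mul_assoc, inv_mul_cancel_left]
        have h2 : (c⁻¹ * y * c) * (c⁻¹ * y * c) * (c⁻¹ * y * c) = 1 := by
          rw [show (c⁻¹ * y * c) * (c⁻¹ * y * c) * (c⁻¹ * y * c) = c⁻¹ * (y * y * y) * c by group, hy3, mul_one,
            inv_mul_cancel]
        rw [h1, show y * t * (y * t) * (y * t) = y * (t * y) * (t * y) * t by group, ← hT y,
          show y * (y * t) * (y * t) * t = y * y * (t * y) * (t * t) by group, ← hT y, htt, mul_one,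
          show y * y * (y * t) = y * y * y * t by group, hy3, one_mul] at h2
        exact r_t1 (inj (by rw [map_one]; exact congrArg Subtype.val h2))
    have := cent_y c (mem_cent.1 c.2) (congrArg Subtype.val hcomm)
    have hπt : π t = 1 := (hπ t).2 (mem_zpowers t)
    have hpow : ∀ k : ℕ, π y ^ k ∈ zpowers (π y) := fun k => Subgroup.npow_mem_zpowers _ k
    show π c ∈ zpowers (π y)
    simp only [List.mem_cons, List.not_mem_nil, or_false] at this
    rcases this with h | h | h | h | h | h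
    · rw [hval c 1 h, map_one]; exact one_mem _
    · rw [hval c y h]; exact mem_zpowers _
    · rw [hval c (y * y) h, map_mul]; exact mul_mem (mem_zpowers _) (mem_zpowers _)
    · rw [hval c t h, hπt]; exact one_mem _
    · rw [hval c (t * y) h, map_mul, hπt, one_mul]; exact mem_zpowers _
    · rw [hval c (t * (y * y)) h, map_mul, map_mul, hπt, one_mul]; exact mul_mem (mem_zpowers _) (mem_zpowers _)
  have hXcard : Nat.card (zpowers (π y)) = 3 := by rw [Nat.card_zpowers, hyord]
  -- the general construction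
  have make : ∀ (P : Type) [Group P] (φ : C →* P), φ t = 1 →
      (∀ c : C, φ c = 1 → c ∈ T ∨ ¬ orderOf c = 3) → Group.IsNilpotent φ.ker →
      (∀ a : P, a * a = 1 → ∀ u : P, u * u * u = 1 → u ≠ 1 → u * a * u⁻¹ * (u * u * a * (u * u)⁻¹) * a⁻¹ = 1 →
        ∀ c : P, c * c = 1 → c * u * c⁻¹ = u⁻¹ → c * a * c⁻¹ = a → a = 1) →
      ∃ F : Subgroup G, F ≤ C ∧ ψ tE ∈ F ∧ Group.IsNilpotent F ∧ ¬ 3 ∣ Nat.card F ∧ ψ iE ∈ F ∧ ψ jE ∈ F ∧
        ∀ c : C, φ c = 1 ↔ (c : G) ∈ F := by
    intro P _ φ ht h3 hnil hdec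
    have hF : ∀ c : C, φ c = 1 ↔ (c : G) ∈ φ.ker.map C.subtype := fun c => by
      refine ⟨fun h => ⟨c, h, rfl⟩, ?_⟩
      rintro ⟨d, hd, e⟩
      rw [← hval d c e]
      exact hd
    have hy1 : φ y ≠ 1 := fun h => by
      rcases h3 y h with h' | h'
      · exact hyT ((hπ y).2 h')
      · refine h' (orderOf_eq_prime (hp := ⟨Nat.prime_three⟩) ?_ fun e => r_y1 (inj ?_))
        · rw [pow_succ, pow_two, hy3]
        · rw [map_one]; exact congrArg Subtype.val e
    have hrel : φ (y * i * y⁻¹ * (y * y * i * (y * y)⁻¹) * i⁻¹) = 1 := by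
      simp only [List.mem_cons, List.not_mem_nil, or_false] at r_prod
      rcases r_prod with e | e
      · rw [hval (y * i * y⁻¹ * (y * y * i * (y * y)⁻¹) * i⁻¹) 1 (by
          simpa [y, i, map_mul, map_inv] using congrArg ψ e), map_one]
      · rw [hval (y * i * y⁻¹ * (y * y * i * (y * y)⁻¹) * i⁻¹) t (by
          simpa [y, i, t, map_mul, map_inv] using congrArg ψ e), ht]
    have hi : φ i = 1 := by
      refine hdec _ ?_ (φ y) (by rw [← map_mul, ← map_mul, hy3, map_one]) hy1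
        (by simpa [map_mul, map_inv] using hrel) (φ e) (by rw [← map_mul, hee, map_one])
        (by rw [← map_inv, ← map_mul, ← map_mul, hey, map_inv]) ?_
      · rw [← map_mul, hval (i * i) t (by show ψ iE * ψ iE = ψ tE; rw [← map_mul, r_ii]), ht]
      · rw [← map_inv, ← map_mul, ← map_mul, hval (e * i * e⁻¹) (t * i) (by
          show ψ eE * ψ iE * (ψ eE)⁻¹ = ψ tE * ψ iE
          rw [← map_inv, ← map_mul, ← map_mul, r_ei, map_mul]), map_mul, ht, one_mul]
    have hj : φ j = 1 := by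
      rcases j_rel with h | h | h | h
      · rw [hval j (y * i * y⁻¹) (by simp [j, y, i, h, map_mul, map_inv])]; simp [hi]
      · rw [hval j (y * i * y⁻¹ * t) (by simp [j, y, i, t, h, map_mul, map_inv])]; simp [hi, ht]
      · rw [hval j (y * y * i * (y * y)⁻¹) (by simp [j, y, i, h, map_mul, map_inv])]; simp [hi]
      · rw [hval j (y * y * i * (y * y)⁻¹ * t) (by simp [j, y, i, t, h, map_mul, map_inv])]; simp [hi, ht]
    refine ⟨φ.ker.map C.subtype, map_subtype_le _, (hF t).1 ht, ?_, ?_, (hF i).1 hi, (hF j).1 hj, hF⟩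
    · exact (Group.isNilpotent_congr (φ.ker.equivMapOfInjective C.subtype C.subtype_injective)).1 hnil
    · intro h
      rw [Subgroup.card_map_of_injective C.subtype_injective] at h
      haveI : Fact (Nat.Prime 3) := ⟨Nat.prime_three⟩
      obtain ⟨c, hc⟩ := exists_prime_orderOf_dvd_card' 3 h
      rw [← Subgroup.orderOf_coe] at hc
      rcases h3 c c.2 with h' | h'
      · rcases hTmem _ h' with e | e <;> rw [e] at hc
        · simp at hc
        · have := orderOf_dvd_of_pow_eq_one (show t ^ 2 = 1 by rw [pow_two, htt])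
          rw [hc] at this; norm_num at this
      · exact h' hc
  have nilKer : ∀ (N : Subgroup (C ⧸ T)), Group.IsNilpotent N → Group.IsNilpotent (N.comap π) := by
    intro N hN
    let f : N.comap π →* N := (π.comp (N.comap π).subtype).codRestrict N fun c => c.2
    have := hN
    refine Subgroup.isNilpotent_of_ker_le_center f (fun c hc => ?_)
    have hcT : (c : C) ∈ T := (hπ _).1 (congrArg Subtype.val (MonoidHom.mem_ker.1 hc))
    refine Subgroup.mem_center_iff.2 fun d => Subtype.ext ?_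
    obtain ⟨k, hk⟩ := hcT
    show (d : C) * c = c * d
    rw [← hk]
    exact (Commute.zpow_right (hT _) k).eq
  have h3of : ∀ (N : Subgroup (C ⧸ T)), (∀ n ∈ N, n ^ 3 = 1 → n = 1) →
      ∀ c : C, π c ∈ N → c ∈ T ∨ ¬ orderOf c = 3 := fun N hN c hc => by
    by_cases h : orderOf c = 3
    · exact Or.inl ((hπ c).1 (hN _ hc (by rw [← map_pow, ← h, pow_orderOf_eq_one, map_one])))
    · exact Or.inr h
  rcases Cfsg.Agent.S3331.result (zpowers (π y)) hXcard hcentX with
    ⟨N, hN, hNnil, hN3, hq⟩ | ⟨N, hN, hNc, hN2, ⟨ea⟩⟩ | hep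
  · have h3N : ∀ n ∈ N, n ^ 3 = 1 → n = 1 := fun n hn h => by
      have h1 : orderOf n ∣ 3 := orderOf_dvd_of_pow_eq_one h
      have h2 := Subgroup.orderOf_dvd_natCard N hn
      exact orderOf_eq_one_iff.1 (Nat.dvd_one.1 (hN3 ▸ Nat.dvd_gcd h2 h1))
    rcases hq with hq | ⟨⟨es⟩⟩
    · exfalso
      have hcomm : ∀ a b : (C ⧸ T) ⧸ N, a * b = b * a := by
        haveI : Fact (Nat.Prime 3) := ⟨Nat.prime_three⟩
        haveI : IsCyclic ((C ⧸ T) ⧸ N) := isCyclic_of_prime_card hq
        exact fun a b => (IsCyclic.isMulCommutative (α := (C ⧸ T) ⧸ N)).is_comm.comm a b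
      have h1 : QuotientGroup.mk' N (π (e * y * e⁻¹)) = QuotientGroup.mk' N (π y) := by
        simp only [map_mul, map_inv]
        rw [hcomm, inv_mul_cancel_left]
      rw [hey, map_inv, map_inv, inv_eq_iff_mul_eq_one, ← map_mul] at h1
      have h2 : π y * π y ∈ N := (QuotientGroup.eq_one_iff _).1 h1
      have h3 := h3N _ h2 (by
        rw [← map_mul, ← map_pow, pow_succ, pow_two,
          show y * y * (y * y) * (y * y) = y * y * y * (y * y * y) by group, hy3, one_mul, map_one])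
      apply hyT
      calc π y = (π y * π y) * (π y * π y) := by
            rw [← map_mul, ← map_mul, show y * y * (y * y) = y * (y * y * y) by group, hy3, mul_one]
        _ = 1 := by rw [h3, one_mul]
    · let φ : C →* Equiv.Perm (Fin 3) := es.toMonoidHom.comp ((QuotientGroup.mk' N).comp π)
      have hker : φ.ker = N.comap π := by
        ext c
        show es (QuotientGroup.mk' N (π c)) = 1 ↔ π c ∈ N
        rw [map_eq_one_iff es es.injective]
        exact QuotientGroup.eq_one_iff _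
      obtain ⟨F, hle, htm, hnl, h3, hi, hj, hiff⟩ := make (Equiv.Perm (Fin 3)) φ (by
        show es (QuotientGroup.mk' N (π t)) = 1
        rw [(hπ t).2 (mem_zpowers t), map_one, map_one]) (fun c hc => h3of N h3N c (by
        rw [← Subgroup.mem_comap, ← hker]; exact hc)) (hker ▸ nilKer N hNnil) sym_no_four
      exact ⟨⟨F, hle, htm, hnl, h3, hi, hj, Or.inl ⟨φ,
        es.surjective.comp ((QuotientGroup.mk'_surjective N).comp (QuotientGroup.mk'_surjective T)), hiff⟩⟩⟩
  · have h3N : ∀ n ∈ N, n ^ 3 = 1 → n = 1 := fun n hn h => by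
      have := hN2 n hn
      rwa [pow_succ, this, one_mul] at h
    have hNnil : Group.IsNilpotent N := by
      letI : CommGroup N := { (inferInstance : Group N) with mul_comm := hNc.is_comm.comm }
      exact CommGroup.isNilpotent
    let φ : C →* alternatingGroup (Fin 5) := ea.toMonoidHom.comp ((QuotientGroup.mk' N).comp π)
    have hker : φ.ker = N.comap π := by
      ext c
      show ea (QuotientGroup.mk' N (π c)) = 1 ↔ π c ∈ N
      rw [map_eq_one_iff ea ea.injective]
      exact QuotientGroup.eq_one_iff _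
    obtain ⟨F, hle, htm, hnl, h3, hi, hj, hiff⟩ := make (alternatingGroup (Fin 5)) φ (by
      show ea (QuotientGroup.mk' N (π t)) = 1
      rw [(hπ t).2 (mem_zpowers t), map_one, map_one]) (fun c hc => h3of N h3N c (by
      rw [← Subgroup.mem_comap, ← hker]; exact hc)) (hker ▸ nilKer N hNnil) alt_no_four
    refine ⟨⟨F, hle, htm, hnl, h3, hi, hj, Or.inr ⟨fun f hf => ?_, φ,
      ea.surjective.comp ((QuotientGroup.mk'_surjective N).comp (QuotientGroup.mk'_surjective T)), hiff⟩⟩⟩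
    have hfN : π ⟨f, hle hf⟩ ∈ N := by
      rw [← Subgroup.mem_comap, ← hker]
      exact (hiff ⟨f, hle hf⟩).2 hf
    have : (⟨f, hle hf⟩ : C) * ⟨f, hle hf⟩ ∈ T := (hπ _).1 (by rw [map_mul, ← pow_two]; exact hN2 _ hfN)
    rcases hTmem _ this with e | e
    · exact Or.inl (congrArg Subtype.val e)
    · exact Or.inr (congrArg Subtype.val e)
  · exfalso
    obtain ⟨ep⟩ := hep
    have hinv : ∀ m (hm : ψ m ∈ C), m * m ∈ [1, tE] → m ≠ 1 → m ≠ tE →
        ep (π ⟨ψ m, hm⟩) * ep (π ⟨ψ m, hm⟩) = 1 ∧ ep (π ⟨ψ m, hm⟩) ≠ 1 := by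
      intro m hm h2 h1 ht
      refine ⟨?_, fun h => ?_⟩
      · rw [← map_mul, map_eq_one_iff ep ep.injective, ← map_mul, hπ]
        simp only [List.mem_cons, List.not_mem_nil, or_false] at h2
        rcases h2 with h2 | h2
        · rw [hval (⟨ψ m, hm⟩ * ⟨ψ m, hm⟩) 1 (by simp [← map_mul, h2])]; exact one_mem _
        · rw [hval (⟨ψ m, hm⟩ * ⟨ψ m, hm⟩) t (by simp [t, ← map_mul, h2])]; exact mem_zpowers _
      · rw [map_eq_one_iff ep ep.injective, hπ] at h
        rcases hmem1 _ hm h with h' | h'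
        · exact h1 h'
        · exact ht h'
    obtain ⟨a1, a2⟩ := hinv eE e.2 (by simp [r_ee]) r_e1 r_et
    obtain ⟨b1, b2⟩ := hinv iE i.2 (by simp [r_ii]) r_i1 r_it
    obtain ⟨g, hg⟩ := psl_seven_conj _ _ a1 a2 b1 b2
    obtain ⟨w, hw⟩ := ep.surjective g
    obtain ⟨c, rfl⟩ := QuotientGroup.mk_surjective w
    rw [← hw, ← map_inv, ← map_mul, ← map_mul] at hg
    have h := ep.injective hg
    rw [show (QuotientGroup.mk c : C ⧸ T) = π c from rfl, ← map_inv, ← map_mul, ← map_mul] at h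
    have hm : (c * e * c⁻¹)⁻¹ * i ∈ T := by rw [← hπ, map_mul, map_inv, h, inv_mul_cancel]
    have hne : i * i ≠ 1 := fun h => r_t1 (inj (by
      rw [map_one, ← r_ii, map_mul]; exact congrArg Subtype.val h))
    rcases hTmem _ hm with h' | h' <;> rw [inv_mul_eq_iff_eq_mul] at h'
    · exact hne (by rw [h', mul_one, show c * e * c⁻¹ * (c * e * c⁻¹) = c * (e * e) * c⁻¹ by group, hee, mul_one,
        mul_inv_cancel])
    · refine hne (by rw [h', show c * e * c⁻¹ * t * (c * e * c⁻¹ * t) = c * e * c⁻¹ * (t * (c * e * c⁻¹)) * t by group,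
        ← hT, show c * e * c⁻¹ * (c * e * c⁻¹ * t) * t = c * (e * e) * c⁻¹ * (t * t) by group, hee, htt, mul_one,
        mul_one, mul_inv_cancel])

end Cfsg.Lib.AmalgamTwelve
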