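import Cfsg.Agent.AmalgamTwelve.Data

/-! Checks of the logs over the affine group. -/

set_option autoImplicit false
set_option maxRecDepth 20000
set_option Elab.async false

namespace Cfsg.Lib.AmalgamTwelve

open Cfsg.Lib.M12Cent (Log)

theorem logD_spec : logD.factsOK 0 logD.m = true ∧ logD.lettersOK = true ∧
    logD.follow logD.m pathD 0 = some (0, [12, 12, 12]) := by decide +kernel

theorem log0000_spec : log0000.factsOK 0 log0000.m = true ∧ log0000.lettersOK = true ∧
    log0000.follow log0000.m path0000 0 = some (0, [12]) := by decide +kernel

theorem log0001_spec : log0001.factsOK 0 log0001.m = true ∧ log0001.lettersOK = true ∧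
    log0001.follow log0001.m path0001 0 = some (0, [12]) := by decide +kernel

theorem log0010_spec : log0010.factsOK 0 log0010.m = true ∧ log0010.lettersOK = true ∧
    log0010.follow log0010.m path0010 0 = some (0, [12]) := by decide +kernel

theorem log0011_spec : log0011.factsOK 0 log0011.m = true ∧ log0011.lettersOK = true ∧
    log0011.follow log0011.m path0011 0 = some (0, [12]) := by decide +kernel

theorem log0100_spec : log0100.factsOK 0 log0100.m = true ∧ log0100.lettersOK = true ∧
    log0100.follow log0100.m path0100 0 = some (0, [12]) := by decide +kernel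

theorem log0101_spec : log0101.factsOK 0 log0101.m = true ∧ log0101.lettersOK = true ∧
    log0101.follow log0101.m path0101 0 = some (0, [12]) := by decide +kernel

theorem log0110_spec : log0110.factsOK 0 log0110.m = true ∧ log0110.lettersOK = true ∧
    log0110.follow log0110.m path0110 0 = some (0, [12]) := by decide +kernel

theorem log0111_spec : log0111.factsOK 0 log0111.m = true ∧ log0111.lettersOK = true ∧
    log0111.follow log0111.m path0111 0 = some (0, [12]) := by decide +kernel

theorem log1000_spec : log1000.factsOK 0 log1000.m = true ∧ log1000.lettersOK = true ∧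
    log1000.follow log1000.m path1000 0 = some (0, [12]) := by decide +kernel

theorem log1001_spec : log1001.factsOK 0 log1001.m = true ∧ log1001.lettersOK = true ∧
    log1001.follow log1001.m path1001 0 = some (0, [12]) := by decide +kernel

theorem log1010_spec : log1010.factsOK 0 log1010.m = true ∧ log1010.lettersOK = true ∧
    log1010.follow log1010.m path1010 0 = some (0, [12]) := by decide +kernel

theorem log1011_spec : log1011.factsOK 0 log1011.m = true ∧ log1011.lettersOK = true ∧
    log1011.follow log1011.m path1011 0 = some (0, [12]) := by decide +kernel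

theorem log1100_spec : log1100.factsOK 0 log1100.m = true ∧ log1100.lettersOK = true ∧
    log1100.follow log1100.m path1100 0 = some (0, [12]) := by decide +kernel

theorem log1110_spec : log1110.factsOK 0 log1110.m = true ∧ log1110.lettersOK = true ∧
    log1110.follow log1110.m path1110 0 = some (0, [12]) := by decide +kernel

theorem log1111_spec : log1111.factsOK 0 log1111.m = true ∧ log1111.lettersOK = true ∧
    log1111.follow log1111.m path1111 0 = some (0, [12]) := by decide +kernel

theorem logM_0 : logM.factsOK 0 400 = true := by decide +kernel
theorem logM_400 : logM.factsOK 400 400 = true := by decide +kernel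
theorem logM_800 : logM.factsOK 800 400 = true := by decide +kernel
theorem logM_1200 : logM.factsOK 1200 400 = true := by decide +kernel
theorem logM_1600 : logM.factsOK 1600 400 = true := by decide +kernel
theorem logM_2000 : logM.factsOK 2000 400 = true := by decide +kernel
theorem logM_2400 : logM.factsOK 2400 400 = true := by decide +kernel
theorem logM_2800 : logM.factsOK 2800 400 = true := by decide +kernel
theorem logM_3200 : logM.factsOK 3200 400 = true := by decide +kernel
theorem logM_3600 : logM.factsOK 3600 400 = true := by decide +kernel
theorem logM_4000 : logM.factsOK 4000 136 = true := by decide +kernel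

theorem logM_ok : logM.factsOK 0 logM.m = true := by
  rw [show logM.m = 4136 from rfl]
  have h400 : logM.factsOK 0 800 = true := Log.factsOK_cat0 logM logM_0 logM_400 (by norm_num)
  have h800 : logM.factsOK 0 1200 = true := Log.factsOK_cat0 logM h400 logM_800 (by norm_num)
  have h1200 : logM.factsOK 0 1600 = true := Log.factsOK_cat0 logM h800 logM_1200 (by norm_num)
  have h1600 : logM.factsOK 0 2000 = true := Log.factsOK_cat0 logM h1200 logM_1600 (by norm_num)
  have h2000 : logM.factsOK 0 2400 = true := Log.factsOK_cat0 logM h1600 logM_2000 (by norm_num)
  have h2400 : logM.factsOK 0 2800 = true := Log.factsOK_cat0 logM h2000 logM_2400 (by norm_num)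
  have h2800 : logM.factsOK 0 3200 = true := Log.factsOK_cat0 logM h2400 logM_2800 (by norm_num)
  have h3200 : logM.factsOK 0 3600 = true := Log.factsOK_cat0 logM h2800 logM_3200 (by norm_num)
  have h3600 : logM.factsOK 0 4000 = true := Log.factsOK_cat0 logM h3200 logM_3600 (by norm_num)
  have h4000 : logM.factsOK 0 4136 = true := Log.factsOK_cat0 logM h3600 logM_4000 (by norm_num)
  exact h4000

theorem logM_letters : logM.lettersOK = true := by decide +kernel

theorem logM_closed : logM.closedOK rowsM = true := Log.closedOK_of_mask (mask := maskM) (by decide +kernel)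

theorem rowsM_len : rowsM.length = 220 := by decide +kernel

theorem logK_spec : ∀ ey eo ci cj : Bool, ¬ (ey = true ∧ eo = true ∧ ci = false ∧ cj = true) →
    (logK ey eo ci cj).factsOK 0 (logK ey eo ci cj).m = true ∧ (logK ey eo ci cj).lettersOK = true ∧
    (logK ey eo ci cj).follow (logK ey eo ci cj).m (pathK ey eo ci cj) 0 = some (0, [12]) := by
  intro ey eo ci cj h
  cases ey <;> cases eo <;> cases ci <;> cases cj
  · exact log0000_spec
  · exact log0001_spec
  · exact log0010_spec
  · exact log0011_spec
  · exact log0100_spec
  · exact log0101_spec
  · exact log0110_spec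
  · exact log0111_spec
  · exact log1000_spec
  · exact log1001_spec
  · exact log1010_spec
  · exact log1011_spec
  · exact log1100_spec
  · exact absurd ⟨rfl, rfl, rfl, rfl⟩ h
  · exact log1110_spec
  · exact log1111_spec

theorem logK_rels : ∀ ey eo ci cj : Bool, (logK ey eo ci cj).rels = kRels ey eo ci cj ∧ (logK ey eo ci cj).ng = 14 ∧
    (logK ey eo ci cj).iv = [1, 0, 3, 2, 5, 4, 7, 6, 9, 8, 10, 11, 13, 12] ∧ (logK ey eo ci cj).subs = List.range 12 := by
  intro ey eo ci cj
  cases ey <;> cases eo <;> cases ci <;> cases cj <;> exact ⟨rfl, rfl, rfl, rfl⟩

end Cfsg.Lib.AmalgamTwelve
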