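import Cfsg.Agent.AmalgamTwelve.Model
import Cfsg.Agent.AmalgamTwelve.LogFacts

/-!
A group containing the affine group and one further element, subject to the relators.
-/

set_option autoImplicit false
set_option linter.unusedSectionVars false
set_option maxRecDepth 10000

namespace Cfsg.Lib.AmalgamTwelve

open Subgroup
open Cfsg.Lib.M12Cent (Log)

variable {X : Type*} [Group X]

/-- the letters: twelve for the affine group, two for the further element -/
def im (ψ : A432 →* X) (k : X) (l : ℕ) : X := if l < 12 then ψ (gens.getD l 1) else if l = 12 then k else k⁻¹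

/-- the value of a word -/
def wval (ψ : A432 →* X) (k : X) (w : List ℕ) : X := (w.map (im ψ k)).prod

/-- the orbit product under conjugation by the inverse -/
def orbP (k u : X) : X := k * (u⁻¹ * k * u) * (u⁻¹ * u⁻¹ * k * (u * u))

/-- an element if the flag is set -/
def optv (b : Bool) (g : X) : X := if b then g else 1

/-- the equations on an involution -/
structure KEq (ψ : A432 →* X) (k : X) (ey eo ci cj : Bool) : Prop where
  kk : k * k = 1
  kt : k * ψ tE * k⁻¹ * ψ tE = 1
  ke : k * ψ eE * k⁻¹ * ψ eE = 1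
  ki : k * ψ iE * k⁻¹ * (ψ iE)⁻¹ * optv ci (ψ tE) = 1
  kj : k * ψ jE * k⁻¹ * (ψ jE)⁻¹ * optv cj (ψ tE) = 1
  py : orbP k (ψ yE) * optv ey (ψ tE) = 1
  px : orbP k (ψ xE) * optv eo (ψ eE) = 1

/-- the equations on an element of odd order -/
structure DEq (ψ : A432 →* X) (k : X) : Prop where
  kt : k * ψ tE * k⁻¹ * ψ tE = 1
  ke : k * ψ eE * k⁻¹ * ψ eE = 1
  ki : k * ψ iE * k⁻¹ * (ψ iE)⁻¹ = 1
  kj : k * ψ jE * k⁻¹ * (ψ jE)⁻¹ = 1
  py : orbP k (ψ yE) = 1
  px : orbP k (ψ xE) = 1

theorem aRels_eval : ∀ r ∈ aRels, (r.all fun l => decide (l < 12)) = true ∧ evA r = 1 := by decide +kernel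

theorem gens_inv : ∀ l : Fin 12, ([1, 0, 3, 2, 5, 4, 7, 6, 9, 8, 10, 11, 13, 12].getD l 0 < 12) ∧
    gens.getD ([1, 0, 3, 2, 5, 4, 7, 6, 9, 8, 10, 11, 13, 12].getD l 0) 1 = (gens.getD l 1)⁻¹ := by decide +kernel

variable (ψ : A432 →* X) (k : X)

theorem wval_low : ∀ w : List ℕ, (w.all fun l => decide (l < 12)) = true → wval ψ k w = ψ (evA w)
  | [], _ => (map_one ψ).symm
  | l :: w, h => by
    simp only [List.all_cons, Bool.and_eq_true, decide_eq_true_eq] at h
    show im ψ k l * wval ψ k w = ψ (gens.getD l 1 * evA w)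
    rw [wval_low w h.2, map_mul, im, if_pos h.1]

theorem aRels_one : ∀ r ∈ aRels, wval ψ k r = 1 := fun r hr => by
  rw [wval_low ψ k r (aRels_eval r hr).1, (aRels_eval r hr).2, map_one]

theorem orbY_val : wval ψ k orbY = orbP k (ψ yE) := by
  simp [wval, orbY, im, gens, orbP, map_inv, mul_assoc]

theorem orbX_val : wval ψ k orbX = orbP k (ψ xE) := by
  simp [wval, orbX, im, gens, orbP, map_inv, mul_assoc]

theorem wval_append (a b : List ℕ) : wval ψ k (a ++ b) = wval ψ k a * wval ψ k b := by simp [wval]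

theorem wval_optT (b : Bool) : wval ψ k (opt b [10]) = optv b (ψ tE) := by
  cases b <;> simp [opt, optv, wval, im, gens]

theorem wval_optE (b : Bool) : wval ψ k (opt b [11]) = optv b (ψ eE) := by
  cases b <;> simp [opt, optv, wval, im, gens]

theorem kRels_one {ey eo ci cj : Bool} (h : KEq ψ k ey eo ci cj) : ∀ r ∈ kRels ey eo ci cj, wval ψ k r = 1 := by
  intro r hr
  simp only [kRels, List.mem_append, List.mem_cons, List.not_mem_nil, or_false] at hr
  rcases hr with hr | rfl | rfl | rfl | rfl | rfl | rfl | rfl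
  · exact aRels_one ψ k r hr
  · simpa [wval, im] using h.kk
  · simpa [wval, im, gens, mul_assoc] using h.kt
  · simpa [wval, im, gens, mul_assoc] using h.ke
  · rw [wval_append, wval_optT]
    simpa [wval, im, gens, map_inv, mul_assoc] using h.ki
  · rw [wval_append, wval_optT]
    simpa [wval, im, gens, map_inv, mul_assoc] using h.kj
  · rw [wval_append, wval_optT, orbY_val]; exact h.py
  · rw [wval_append, wval_optE, orbX_val]; exact h.px

theorem dRels_one (h : DEq ψ k) : ∀ r ∈ dRels, wval ψ k r = 1 := by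
  intro r hr
  simp only [dRels, List.mem_append, List.mem_cons, List.not_mem_nil, or_false] at hr
  rcases hr with hr | rfl | rfl | rfl | rfl | rfl | rfl
  · exact aRels_one ψ k r hr
  · simpa [wval, im, gens, mul_assoc] using h.kt
  · simpa [wval, im, gens, mul_assoc] using h.ke
  · simpa [wval, im, gens, map_inv, mul_assoc] using h.ki
  · simpa [wval, im, gens, map_inv, mul_assoc] using h.kj
  · rw [orbY_val]; exact h.py
  · rw [orbX_val]; exact h.px

theorem im_inv : ∀ l < 14, im ψ k ([1, 0, 3, 2, 5, 4, 7, 6, 9, 8, 10, 11, 13, 12].getD l 0) = (im ψ k l)⁻¹ := by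
  intro l hl
  by_cases h : l < 12
  · obtain ⟨h1, h2⟩ := gens_inv ⟨l, h⟩
    simp only at h1 h2
    rw [im, if_pos h1, h2, map_inv, im, if_pos h]
  · interval_cases l <;> simp [im]

theorem sound {C : Log} (hng : C.ng = 14) (hiv : C.iv = [1, 0, 3, 2, 5, 4, 7, 6, 9, 8, 10, 11, 13, 12])
    (hsub : C.subs = List.range 12) (hlet : C.lettersOK = true) (hrel : ∀ r ∈ C.rels, wval ψ k r = 1) :
    C.Sound (im ψ k) ψ.range := by
  refine ⟨hlet, fun l hl => ?_, fun r hr => ?_, fun l hl => ?_⟩
  · rw [hng] at hl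
    rw [Log.inv, if_pos (by omega), hiv]
    exact im_inv ψ k l hl
  · rw [← hrel r hr, Log.wv, wval]
    refine congrArg List.prod (List.map_congr_left fun l hl => ?_)
    have hL := hlet
    simp only [Log.lettersOK, Bool.and_eq_true, List.all_eq_true, decide_eq_true_eq] at hL
    rw [Log.val, if_pos (hL.1 r hr l hl)]
  · rw [hsub, List.mem_range] at hl
    rw [Log.val, if_pos (by omega), im, if_pos hl]
    exact ⟨_, rfl⟩

theorem walk_mem {C : Log} (hS : C.Sound (im ψ k) ψ.range) (hf : C.factsOK 0 C.m = true) {p w : List ℕ}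
    (hw : C.follow C.m p 0 = some (0, w)) : C.wv (im ψ k) w ∈ ψ.range := by
  simpa [Log.rep_zero] using hS.follow_holds (hS.all_hold hf) _ _ _ _ hw

/-- An involution satisfying the equations lies in the affine group, one case excepted. -/
theorem collapse {ey eo ci cj : Bool} (h : KEq ψ k ey eo ci cj)
    (hne : ¬ (ey = true ∧ eo = true ∧ ci = false ∧ cj = true)) : k ∈ ψ.range := by
  obtain ⟨hr, hng, hiv, hsub⟩ := logK_rels ey eo ci cj
  obtain ⟨hf, hlet, hw⟩ := logK_spec ey eo ci cj hne
  have hS := sound ψ k hng hiv hsub hlet (by rw [hr]; exact kRels_one ψ k h)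
  simpa [Log.wv, Log.val, hng, im] using walk_mem ψ k hS hf hw

/-- An element of odd order satisfying the equations has its cube in the affine group. -/
theorem cube_mem (h : DEq ψ k) : k * (k * k) ∈ ψ.range := by
  obtain ⟨hf, hlet, hw⟩ := logD_spec
  have hS := sound ψ k (C := logD) rfl rfl (by decide) hlet (fun r hr => dRels_one ψ k h r hr)
  simpa [Log.wv, Log.val, show logD.ng = 14 from rfl, im] using walk_mem ψ k hS hf hw

/-- The subgroup generated by the letters. -/
def gen : Subgroup X := closure (im ψ k '' Set.Iio 14)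

theorem card_gen [Finite X] (h : KEq ψ k true true false true) : Nat.card (gen ψ k) ≤ 220 * 432 := by
  have hS := sound ψ k (C := logM) rfl rfl (by decide) logM_letters (fun r hr => kRels_one ψ k h r hr)
  have := hS.card_le logM_ok logM_closed (L := gen ψ k) le_rfl
  rw [rowsM_len] at this
  refine this.trans (Nat.mul_le_mul_left _ ?_)
  refine (Nat.card_le_card_of_surjective ψ.rangeRestrict ψ.rangeRestrict_surjective).trans ?_
  rw [Nat.card_eq_fintype_card, card432]

end Cfsg.Lib.AmalgamTwelve
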