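import Cfsg.Agent.AmalgamTwelve.Cent
import Cfsg.Agent.AmalgamTwelve.Pres
import Cfsg.Agent.PGLCover.Two
import Mathlib.GroupTheory.Perm.Cycle.Type

/-!
Basic consequences of the shape of the centraliser of the central involution.
-/

set_option autoImplicit false
set_option linter.unusedSectionVars false
set_option linter.style.haveILetI false
set_option maxRecDepth 10000

namespace Cfsg.Lib.AmalgamTwelve

open Subgroup Cfsg.Lib.Order9 Cfsg.Lib.GLTwoThree

theorem dvd_card_of_fpf {α : Type*} [Finite α] {p : ℕ} (hp : p.Prime) (f : α → α) (hper : ∀ a, f^[p] a = a)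
    (hno : ∀ a, f a ≠ a) : p ∣ Nat.card α := by
  classical
  haveI := Fintype.ofFinite α
  haveI : Fact p.Prime := ⟨hp⟩
  have h := Equiv.Perm.card_fixedPoints_modEq (f := (f : Function.End α)) (p := p) (n := 1) (by
    rw [pow_one]
    funext a
    exact (congrFun (hom_coe_pow (fun g : Function.End α ↦ g) rfl (fun g h ↦ rfl) (f : Function.End α) p) a).trans
      (hper a))
  have h0 : Fintype.card (Function.fixedPoints (f : Function.End α)) = 0 :=
    Fintype.card_eq_zero_iff.2 ⟨fun a => hno a.1 a.2⟩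
  rw [h0] at h
  rw [Nat.card_eq_fintype_card]
  exact Nat.modEq_zero_iff_dvd.1 h

/-- An automorphism of order two of a nontrivial two-group fixes a central involution. -/
theorem exists_fixed_central {K : Type*} [Group K] [Finite K] [Nontrivial K] (hK : IsPGroup 2 K) (σ : K →* K)
    (hσ : ∀ a, σ (σ a) = a) : ∃ z : K, z ≠ 1 ∧ z ∈ center K ∧ z * z = 1 ∧ σ z = z := by
  haveI : Fact (Nat.Prime 2) := ⟨Nat.prime_two⟩
  haveI := hK.center_nontrivial
  obtain ⟨k, hk, hcard⟩ := ((hK.to_subgroup (center K)).nontrivial_iff_card).1 inferInstance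
  obtain ⟨⟨z0, hz0⟩, hz2⟩ := exists_prime_orderOf_dvd_card' (G := center K) 2 (by
    rw [hcard]; exact dvd_pow_self 2 hk.ne')
  rw [Subgroup.orderOf_mk] at hz2
  have h00 : z0 * z0 = 1 := by rw [← pow_two, ← hz2, pow_orderOf_eq_one]
  have hne : z0 ≠ 1 := fun e => by rw [e, orderOf_one] at hz2; omega
  by_cases hfix : σ z0 = z0
  · exact ⟨z0, hne, hz0, h00, hfix⟩
  have hc : σ z0 ∈ center K := mem_center_iff.2 fun g => by
    rw [← hσ g, ← map_mul, ← map_mul, mem_center_iff.1 hz0]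
  refine ⟨z0 * σ z0, fun e => hfix ?_, mul_mem hz0 hc, ?_, ?_⟩
  · exact mul_left_cancel (e.trans h00.symm)
  · rw [show z0 * σ z0 * (z0 * σ z0) = z0 * (σ z0 * z0) * σ z0 by group, mem_center_iff.1 hz0,
      show z0 * (z0 * σ z0) * σ z0 = z0 * z0 * (σ z0 * σ z0) by group, h00, ← map_mul, h00, map_one, one_mul]
  · rw [map_mul, hσ, mem_center_iff.1 hz0]

/-- In a finite nilpotent group a product of elements of odd order has odd order. -/
theorem odd_mul {K : Type*} [Group K] [Finite K] [Group.IsNilpotent K] {x y : K} (hx : Odd (orderOf x))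
    (hy : Odd (orderOf y)) : Odd (orderOf (x * y)) := by
  by_contra hcon
  rw [Nat.not_odd_iff_even] at hcon
  obtain ⟨n, hn⟩ := hcon
  have hw2 : orderOf ((x * y) ^ n) = 2 := by
    have hpos := orderOf_pos (x * y)
    rw [orderOf_pow' _ (by omega), Nat.gcd_eq_right ⟨2, by omega⟩, hn, ← two_mul,
      Nat.mul_div_cancel _ (by omega)]
  set w := (x * y) ^ n with hw
  obtain ⟨e⟩ := ((Group.isNilpotent_of_finite_tfae (G := K)).out 0 4).mp (inferInstance : Group.IsNilpotent K)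
  have hone : e.symm w = 1 := by
    refine funext fun l => funext fun P => ?_
    haveI : Fact (l : ℕ).Prime := ⟨Nat.prime_of_mem_primeFactors l.2⟩
    let f : K →* ↥(P : Subgroup K) := ((Pi.evalMonoidHom (fun P : Sylow (l : ℕ) K => ↥(P : Subgroup K)) P).comp
      (Pi.evalMonoidHom _ l)).comp e.symm.toMonoidHom
    show f w = 1
    by_contra hne
    by_cases hl : (l : ℕ) = 2
    · have hkill : ∀ z : K, Odd (orderOf z) → f z = 1 := fun z hz => by
        by_contra h
        have := (P.2.dvd_orderOf h).trans (orderOf_map_dvd f z)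
        rw [hl] at this
        exact (Nat.not_even_iff_odd.2 hz) (even_iff_two_dvd.2 this)
      exact hne (by rw [hw, map_pow, map_mul, hkill x hx, hkill y hy, one_mul, one_pow])
    · have := (P.2.dvd_orderOf hne).trans (orderOf_map_dvd f w)
      rw [hw2] at this
      exact hl ((Nat.prime_dvd_prime_iff_eq Fact.out Nat.prime_two).1 this)
  rw [map_eq_one_iff e.symm e.symm.injective] at hone
  rw [hone, orderOf_one] at hw2
  omega

variable {G : Type*} [Group G] [Finite G] {S : Setup G} (C : Cen S)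

namespace Cen

theorem tt : S.ψ tE * S.ψ tE = 1 := by rw [← map_mul, xz_facts.2.2.2.2.2.2.2.1, map_one]

theorem t_ne : S.ψ tE ≠ 1 := fun h => xz_facts.2.2.2.2.2.2.2.2.1 (S.inj (by rw [map_one, h]))

theorem comm_t {a : G} (h : a ∈ C.F) : a * S.ψ tE = S.ψ tE * a := mem_cent.1 (C.le h)

theorem conj_mem {c f : G} (hc : c * S.ψ tE = S.ψ tE * c) (hf : f ∈ C.F) : c * f * c⁻¹ ∈ C.F := by
  let c' : centralizer ({S.ψ tE} : Set G) := ⟨c, mem_cent.2 hc⟩
  let f' : centralizer ({S.ψ tE} : Set G) := ⟨f, C.le hf⟩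
  rcases C.kind with ⟨φ, -, h⟩ | ⟨-, φ, -, h⟩ <;>
    exact (h (c' * f' * c'⁻¹)).1 (by rw [map_mul, map_mul, (h f').2 hf, map_inv, mul_one, mul_inv_cancel])

theorem conj_mem' {c f : G} (hc : c * S.ψ tE = S.ψ tE * c) (hf : f ∈ C.F) : c⁻¹ * f * c ∈ C.F := by
  have := C.conj_mem (c := c⁻¹) (Commute.inv_left (hc : Commute c (S.ψ tE))).eq hf
  simpa using this

theorem order_three {u : G} (hu : u * u * u = 1) (h : u ∈ C.F) : u = 1 := by
  by_contra hne
  refine C.not3 ?_
  have := Subgroup.orderOf_dvd_natCard C.F h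
  rwa [orderOf_eq_prime (hp := ⟨Nat.prime_three⟩) (by rw [pow_succ, pow_two, hu]) hne] at this

theorem not_mem_of_inverts {a u : G} (hu : u * u * u = 1) (hu1 : u ≠ 1) (hut : u * S.ψ tE = S.ψ tE * u)
    (h : a * u * a⁻¹ = u⁻¹) : a ∉ C.F := fun ha => hu1 <| C.order_three hu <| by
  have h1 : a * (u * a⁻¹ * u⁻¹) ∈ C.F := mul_mem ha (C.conj_mem hut (inv_mem ha))
  rwa [← mul_assoc, ← mul_assoc, h, show u⁻¹ * u⁻¹ = u * (u * u * u)⁻¹ by group, hu, inv_one, mul_one] at h1

theorem eE_not_mem : S.ψ eE ∉ C.F := by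
  refine C.not_mem_of_inverts (u := S.ψ yE) ?_ ?_ ?_ ?_
  · rw [← map_mul, ← map_mul, xz_facts.2.2.2.2.2.1, map_one]
  · exact fun h => xz_facts.2.2.2.2.2.2.1 (S.inj (by rw [map_one, h]))
  · exact map_comm S.ψ rels_basic.1.symm
  · rw [← map_inv, ← map_inv, ← map_mul, ← map_mul, rels_basic.2.2.2.2.2.2.2.1]

/-- An element of odd order commuting with an involution outside the kernel lies in the kernel. -/
theorem odd_mem {a c : G} (ha : a * S.ψ tE = S.ψ tE * a) (haa : a * a = 1) (haF : a ∉ C.F)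
    (hc : c * S.ψ tE = S.ψ tE * c) (hca : c * a = a * c) (ho : Odd (orderOf c)) : c ∈ C.F := by
  let a' : centralizer ({S.ψ tE} : Set G) := ⟨a, mem_cent.2 ha⟩
  let c' : centralizer ({S.ψ tE} : Set G) := ⟨c, mem_cent.2 hc⟩
  have haa' : a' * a' = 1 := Subtype.ext haa
  have hca' : c' * a' = a' * c' := Subtype.ext hca
  have hpow : c' ^ orderOf c = 1 := Subtype.ext (pow_orderOf_eq_one c)
  obtain ⟨m, hm⟩ := ho
  rcases C.kind with ⟨φ, -, h⟩ | ⟨-, φ, -, h⟩
  · have h2 : φ a' * φ a' = 1 := by rw [← map_mul, haa', map_one]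
    rcases sym_cent (φ a') h2 (fun e => haF ((h a').1 e)) (φ c') (by rw [← map_mul, hca', map_mul]) with e | e
    · exact (h c').1 e
    · exfalso
      have := congrArg φ hpow
      rw [map_pow, e, map_one, hm, pow_succ, pow_mul, pow_two, h2, one_pow, one_mul] at this
      exact haF ((h a').1 this)
  · have h2 : φ a' * φ a' = 1 := by rw [← map_mul, haa', map_one]
    have e := alt_cent (φ a') h2 (fun e => haF ((h a').1 e)) (φ c') (by rw [← map_mul, hca', map_mul])
    have := congrArg φ hpow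
    rw [map_pow, map_one, hm, pow_succ, pow_mul, pow_two, e, one_pow, one_mul] at this
    exact (h c').1 this

/-- The subgroup generated by the involution, inside the kernel. -/
def Tq : Subgroup C.F := zpowers ⟨S.ψ tE, C.tmem⟩

instance Tq_normal : C.Tq.Normal := ⟨fun n hn g => by
  obtain ⟨k, rfl⟩ := hn
  have : Commute g (⟨S.ψ tE, C.tmem⟩ : C.F) := Subtype.ext (C.comm_t g.2)
  show g * (⟨S.ψ tE, C.tmem⟩ : C.F) ^ k * g⁻¹ ∈ C.Tq
  rw [(this.zpow_right k).eq, mul_inv_cancel_right]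
  exact ⟨k, rfl⟩⟩

theorem mem_Tq {a : C.F} : a ∈ C.Tq ↔ (a : G) = 1 ∨ (a : G) = S.ψ tE := by
  constructor
  · rintro ⟨k, rfl⟩
    show (((⟨S.ψ tE, C.tmem⟩ : C.F) ^ k : C.F) : G) = 1 ∨ (((⟨S.ψ tE, C.tmem⟩ : C.F) ^ k : C.F) : G) = S.ψ tE
    rw [Subgroup.coe_zpow]
    rcases Int.emod_two_eq_zero_or_one k with hk | hk
    · left; rw [show k = 2 * (k / 2) by omega, zpow_mul, zpow_two, tt, one_zpow]
    · right; rw [show k = 2 * (k / 2) + 1 by omega, zpow_add, zpow_mul, zpow_two, tt, one_zpow, one_mul, zpow_one]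
  · rintro (h | h)
    · rw [show a = 1 from Subtype.ext h]; exact one_mem _
    · rw [show a = ⟨S.ψ tE, C.tmem⟩ from Subtype.ext h]; exact mem_zpowers _

/-- The kernel modulo the involution. -/
abbrev V : Type _ := C.F ⧸ C.Tq

/-- The class of an element of the kernel. -/
def cls (a : G) (ha : a ∈ C.F) : C.V := QuotientGroup.mk (⟨a, ha⟩ : C.F)

theorem cls_eq_one {a : G} {ha : a ∈ C.F} : C.cls a ha = 1 ↔ a = 1 ∨ a = S.ψ tE :=
  (QuotientGroup.eq_one_iff _).trans C.mem_Tq

theorem cls_surj (v : C.V) : ∃ (a : G) (ha : a ∈ C.F), C.cls a ha = v := by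
  obtain ⟨a, rfl⟩ := QuotientGroup.mk_surjective v
  exact ⟨a, a.2, rfl⟩

theorem cls_mul {a b : G} (ha : a ∈ C.F) (hb : b ∈ C.F) : C.cls (a * b) (mul_mem ha hb) = C.cls a ha * C.cls b hb :=
  rfl

theorem cls_eq {a b : G} {ha : a ∈ C.F} {hb : b ∈ C.F} : C.cls a ha = C.cls b hb ↔ b = a ∨ b = a * S.ψ tE := by
  rw [cls, cls, QuotientGroup.eq, C.mem_Tq]
  show a⁻¹ * b = 1 ∨ a⁻¹ * b = S.ψ tE ↔ _
  rw [inv_mul_eq_one, inv_mul_eq_iff_eq_mul, @eq_comm _ a b]

/-- Conjugation on the kernel modulo the involution. -/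
def act (c : G) (hc : c * S.ψ tE = S.ψ tE * c) : C.V →* C.V :=
  QuotientGroup.map C.Tq C.Tq
    { toFun := fun a => ⟨c * a * c⁻¹, C.conj_mem hc a.2⟩
      map_one' := Subtype.ext (by simp)
      map_mul' := fun a b => Subtype.ext (by simp [mul_assoc]) }
    (fun a ha => by
      show (⟨c * a * c⁻¹, C.conj_mem hc a.2⟩ : C.F) ∈ C.Tq
      rw [C.mem_Tq] at ha ⊢
      rcases ha with e | e
      · left; show c * (a : G) * c⁻¹ = 1; rw [e, mul_one, mul_inv_cancel]
      · right; show c * (a : G) * c⁻¹ = S.ψ tE; rw [e, hc, mul_inv_cancel_right])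

theorem act_cls {c : G} (hc : c * S.ψ tE = S.ψ tE * c) {a : G} (ha : a ∈ C.F) :
    C.act c hc (C.cls a ha) = C.cls (c * a * c⁻¹) (C.conj_mem hc ha) := rfl

theorem act_mul {c d : G} (hc : c * S.ψ tE = S.ψ tE * c) (hd : d * S.ψ tE = S.ψ tE * d) (v : C.V) :
    C.act c hc (C.act d hd v) = C.act (c * d) (Commute.mul_left hc hd).eq v := by
  obtain ⟨a, ha, rfl⟩ := C.cls_surj v
  rw [act_cls, act_cls, act_cls, C.cls_eq]
  left; group

theorem act_one {c : G} (hc : c * S.ψ tE = S.ψ tE * c) (h1 : c = 1) (v : C.V) : C.act c hc v = v := by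
  subst h1
  obtain ⟨a, ha, rfl⟩ := C.cls_surj v
  rw [act_cls, C.cls_eq]
  left; group

/-- An element of order three with small centraliser acts without fixed points. -/
theorem fpf {u : G} (hut : u * S.ψ tE = S.ψ tE * u) (hu : u * u * u = 1)
    (hlist : ∀ g : G, g * S.ψ tE = S.ψ tE * g → g * u = u * g →
      g ∈ [1, u, u * u, S.ψ tE, S.ψ tE * u, S.ψ tE * (u * u)]) (v : C.V) (hv : C.act u hut v = v) : v = 1 := by
  obtain ⟨a, ha, rfl⟩ := C.cls_surj v
  rw [act_cls, C.cls_eq] at hv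
  have hau : a * u = u * a := by
    rcases hv with e | e
    · calc a * u = u * a * u⁻¹ * u := by rw [← e]
        _ = u * a := by group
    · exfalso
      have h1 : u * a * u⁻¹ = a * S.ψ tE := by
        conv_rhs => rw [e]
        rw [mul_assoc _ (S.ψ tE), tt, mul_one]
      have key : ∀ b : G, u * (b * S.ψ tE) * u⁻¹ = u * b * u⁻¹ * S.ψ tE := fun b => by
        calc u * (b * S.ψ tE) * u⁻¹ = u * b * (S.ψ tE * u⁻¹) := by group
          _ = u * b * (u⁻¹ * S.ψ tE) := by rw [(Commute.inv_left hut).eq]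
          _ = _ := by group
      have h2 : u * (u * (u * a * u⁻¹) * u⁻¹) * u⁻¹ = a * S.ψ tE := by
        rw [h1, key, h1, mul_assoc a, tt, mul_one, h1]
      rw [show u * (u * (u * a * u⁻¹) * u⁻¹) * u⁻¹ = (u * u * u) * a * (u * u * u)⁻¹ by group, hu, inv_one, mul_one,
        one_mul, left_eq_mul] at h2
      exact t_ne h2
  rw [C.cls_eq_one]
  have := hlist a (C.comm_t ha) hau
  simp only [List.mem_cons, List.not_mem_nil, or_false] at this
  have hkill : ∀ w : G, w * w * w = 1 → S.ψ tE * w ∈ C.F → w = 1 := fun w hw h =>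
    C.order_three hw ((Subgroup.mul_mem_cancel_left _ C.tmem).1 h)
  have hu2 : u * u * (u * u) * (u * u) = 1 := by
    rw [show u * u * (u * u) * (u * u) = u * u * u * (u * u * u) by group, hu, one_mul]
  rcases this with e | e | e | e | e | e
  · exact Or.inl e
  · exact Or.inl (e.trans (C.order_three hu (e ▸ ha)))
  · exact Or.inl (e.trans (C.order_three hu2 (e ▸ ha)))
  · exact Or.inr e
  · exact Or.inr (by rw [e, hkill u hu (e ▸ ha), mul_one])
  · exact Or.inr (by rw [e, hkill (u * u) hu2 (e ▸ ha), mul_one])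

/-- The orbit product is trivial modulo the involution. -/
theorem orb {u : G} (hut : u * S.ψ tE = S.ψ tE * u) (hu : u * u * u = 1)
    (hlist : ∀ g : G, g * S.ψ tE = S.ψ tE * g → g * u = u * g →
      g ∈ [1, u, u * u, S.ψ tE, S.ψ tE * u, S.ψ tE * (u * u)]) {d : G} (hd : d ∈ C.F) :
    orbP d u ∈ C.F ∧ (orbP d u = 1 ∨ orbP d u = S.ψ tE) := by
  have hiut : u⁻¹ * S.ψ tE = S.ψ tE * u⁻¹ := (Commute.inv_left hut).eq
  have huut : u⁻¹ * u⁻¹ * S.ψ tE = S.ψ tE * (u⁻¹ * u⁻¹) := (Commute.mul_left hiut hiut).eq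
  let σ := C.act u⁻¹ hiut
  have hfix : ∀ v, σ v = v → v = 1 := fun v hv => C.fpf hut hu hlist v (by
    conv_lhs => rw [← hv]
    rw [C.act_mul hut hiut]
    exact C.act_one _ (mul_inv_cancel u) v)
  have hinj : Function.Injective fun a : C.V => a⁻¹ * σ a := fun a b e => by
    have e' : σ b = b * (a⁻¹ * σ a) := by rw [show a⁻¹ * σ a = b⁻¹ * σ b from e, mul_inv_cancel_left]
    have h := hfix (b * a⁻¹) (by rw [map_mul, map_inv, e']; group)
    exact (mul_inv_eq_one.1 h).symm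
  obtain ⟨a, ha⟩ := Finite.injective_iff_surjective.1 hinj (C.cls d hd)
  have hm : orbP d u ∈ C.F := mul_mem (mul_mem hd (C.conj_mem' hut hd))
    (by simpa [mul_assoc] using C.conj_mem huut hd)
  have e2 : C.cls (orbP d u) hm = C.cls d hd * σ (C.cls d hd) * σ (σ (C.cls d hd)) := by
    show _ = _ * C.act _ _ _ * C.act _ _ (C.act _ _ _)
    rw [act_cls, act_cls, ← cls_mul, ← cls_mul]
    refine C.cls_eq.2 (Or.inl ?_)
    simp only [orbP]
    group
  have e3 : σ (σ (σ a)) = a := by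
    show C.act _ _ (C.act _ _ (C.act _ _ a)) = a
    rw [C.act_mul, C.act_mul]
    exact C.act_one _ (by rw [show u⁻¹ * u⁻¹ * u⁻¹ = (u * u * u)⁻¹ by group, hu, inv_one]) a
  refine ⟨hm, (C.cls_eq_one (ha := hm)).1 ?_⟩
  rw [e2, ← ha]
  simp only [map_mul, map_inv]
  rw [e3]
  group

end Cen

end Cfsg.Lib.AmalgamTwelve
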