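import Cfsg.Agent.AmalgamTwelve.Fixed
import Mathlib.GroupTheory.SpecificGroups.Alternating.Simple

/-!
Either there is a further involution satisfying the equations, or the kernel has order eight.
-/

set_option autoImplicit false
set_option linter.unusedSectionVars false
set_option linter.style.haveILetI false
set_option maxRecDepth 10000

namespace Cfsg.Lib.AmalgamTwelve

open Subgroup Cfsg.Lib.Order9 Cfsg.Lib.GLTwoThree

theorem alt_cent_card : ∀ a : alternatingGroup (Fin 5), a * a = 1 → a ≠ 1 →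
    (Finset.univ.filter fun c : alternatingGroup (Fin 5) => c * a = a * c).card = 4 := by decide +kernel

theorem alt_five : ∃ a : alternatingGroup (Fin 5), a * a * a * a * a = 1 ∧ a ≠ 1 := by decide +kernel

theorem two_power_mod_five : ∀ n : Fin 5, ∀ k : Fin 5, k < n → 5 ∣ 2 ^ (n : ℕ) - 2 ^ (k : ℕ) →
    (n : ℕ) = 4 ∧ (k : ℕ) = 0 := by decide

variable {G : Type*} [Group G] [Finite G]

namespace Cen

variable {S : Setup G} (C : Cen S)

theorem Qv_card : Nat.card C.Qv = 4 := by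
  have ne : ∀ m, ∀ hm : S.ψ m ∈ C.F, m ≠ 1 → m ≠ tE → C.cls (S.ψ m) hm ≠ 1 := fun m hm h1 ht h => by
    rcases C.cls_eq_one.1 h with e | e
    · exact h1 (S.inj (by rw [map_one, e]))
    · exact ht (S.inj e)
  obtain ⟨-, i1, it, j1, jt, ji, jit, ij1, ijt, -⟩ := four_facts
  have a := ne iE C.imem i1 it
  have b := ne jE C.jmem j1 jt
  have c : C.iv * C.jv ≠ 1 := by
    rw [iv, jv, ← cls_mul]
    intro h
    rcases C.cls_eq_one.1 h with e | e <;> rw [← map_mul] at e
    · exact ij1 (S.inj (by rw [map_one, e]))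
    · exact ijt (S.inj e)
  have d : C.iv ≠ C.jv := fun h => by
    rcases C.cls_eq.1 h with e | e
    · exact ji (S.inj e)
    · exact jit (S.inj (by rw [map_mul, e]))
  have set_eq : (C.Qv : Set C.V) = {1, C.iv, C.jv, C.iv * C.jv} := by
    ext v
    show (v = 1 ∨ v = C.iv ∨ v = C.jv ∨ v = C.iv * C.jv) ↔ _
    simp
  rw [← SetLike.coe_sort_coe, set_eq, Nat.card_coe_set_eq]
  have e1 : (1 : C.V) ∉ ({C.iv, C.jv, C.iv * C.jv} : Set C.V) := by
    simp only [Set.mem_insert_iff, Set.mem_singleton_iff, not_or]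
    exact ⟨Ne.symm a, Ne.symm b, Ne.symm c⟩
  have e2 : C.iv ∉ ({C.jv, C.iv * C.jv} : Set C.V) := by
    simp only [Set.mem_insert_iff, Set.mem_singleton_iff, not_or]
    exact ⟨d, fun h => b (left_eq_mul.1 h)⟩
  rw [Set.ncard_insert_of_notMem e1, Set.ncard_insert_of_notMem e2,
    Set.ncard_pair (show C.jv ≠ C.iv * C.jv from fun h => a (right_eq_mul.1 h))]

theorem card_F : Nat.card C.F = 2 * Nat.card C.V := by
  rw [Subgroup.card_eq_card_quotient_mul_card_subgroup C.Tq, mul_comm]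
  congr 1
  rw [Tq, Nat.card_zpowers, ← Subgroup.orderOf_coe, orderOf_eq_prime (p := 2) (by rw [pow_two, tt]) t_ne]

/-- Commuting with an element of order four, up to the involution. -/
theorem flag_of_commute {d : G} (hd : d ∈ C.F) {q : A432} (hq : S.ψ q ∈ C.F)
    (h : Commute (C.cls d hd) (C.cls (S.ψ q) hq)) :
    ∃ b : Bool, d * S.ψ q * d⁻¹ * (S.ψ q)⁻¹ * optv b (S.ψ tE) = 1 := by
  have h' : C.cls d hd * C.cls (S.ψ q) hq = C.cls (S.ψ q) hq * C.cls d hd := h
  rw [← cls_mul, ← cls_mul, C.cls_eq] at h'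
  rcases h' with e | e
  · exact ⟨false, by simp [optv, ← e]⟩
  · refine ⟨true, ?_⟩
    have e' : d * S.ψ q = S.ψ q * d * S.ψ tE := by rw [e, mul_assoc _ (S.ψ tE), tt, mul_one]
    have hc : ∀ w, w ∈ C.F → S.ψ tE * w = w * S.ψ tE := fun w hw => (C.comm_t hw).symm
    rw [e', optv, if_pos rfl]
    calc S.ψ q * d * S.ψ tE * d⁻¹ * (S.ψ q)⁻¹ * S.ψ tE
        = S.ψ q * d * (S.ψ tE * (d⁻¹ * (S.ψ q)⁻¹)) * S.ψ tE := by group
      _ = S.ψ q * d * ((d⁻¹ * (S.ψ q)⁻¹) * S.ψ tE) * S.ψ tE := by rw [hc _ (mul_mem (inv_mem hd) (inv_mem hq))]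
      _ = S.ψ tE * S.ψ tE := by group
      _ = 1 := tt

theorem keq_of {h : G} (hh : h * S.ψ tE * h⁻¹ = S.ψ eE) {d : G} (hd : d ∈ C.F)
    (hde : d * S.ψ eE = S.ψ eE * d) (hb : h⁻¹ * d * h ∈ C.F) (h2 : d * d = 1) (h1 : C.cls d hd ≠ 1)
    (hi : Commute (C.cls d hd) C.iv) (hj : Commute (C.cls d hd) C.jv) :
    KEq S.ψ d true true false true := by
  obtain ⟨ci, eci⟩ := C.flag_of_commute hd C.imem hi
  obtain ⟨cj, ecj⟩ := C.flag_of_commute hd C.jmem hj
  obtain ⟨ey, eey⟩ : ∃ b : Bool, orbP d (S.ψ yE) * optv b (S.ψ tE) = 1 := by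
    rcases (C.orb_y hd).2 with e | e
    · exact ⟨false, by rw [e, optv]; simp⟩
    · exact ⟨true, by rw [e, optv, if_pos rfl, tt]⟩
  obtain ⟨eo, eeo⟩ : ∃ b : Bool, orbP d (S.ψ xE) * optv b (S.ψ eE) = 1 := by
    rcases (C.orb_x hh hb).2 with e | e
    · exact ⟨false, by rw [e, optv]; simp⟩
    · exact ⟨true, by rw [e, optv, if_pos rfl, ee]⟩
  have K : KEq S.ψ d ey eo ci cj :=
    ⟨h2, by rw [C.comm_t hd, mul_inv_cancel_right, tt], by rw [hde, mul_inv_cancel_right, ee], eci, ecj, eey, eeo⟩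
  by_cases hp : ey = true ∧ eo = true ∧ ci = false ∧ cj = true
  · obtain ⟨rfl, rfl, rfl, rfl⟩ := hp
    exact K
  exfalso
  obtain ⟨m, rfl⟩ := collapse S.ψ d K hp
  have k1 : m * tE = tE * m := S.inj (by rw [map_mul, map_mul, C.comm_t hd])
  have k2 : m * eE = eE * m := S.inj (by rw [map_mul, map_mul, hde])
  have k3 : m * m = 1 := S.inj (by rw [map_mul, h2, map_one])
  have k4 : m * jE = jE * m ∨ m * jE = tE * (jE * m) := by
    have h' : C.cls (S.ψ m) hd * C.cls (S.ψ jE) C.jmem = C.cls (S.ψ jE) C.jmem * C.cls (S.ψ m) hd := hj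
    rw [← cls_mul, ← cls_mul, C.cls_eq] at h'
    rcases h' with e | e
    · exact Or.inl (S.inj (by rw [map_mul, map_mul, e]))
    · right
      refine S.inj ?_
      rw [map_mul, map_mul, map_mul, e, show S.ψ tE * (S.ψ m * S.ψ jE * S.ψ tE) = S.ψ tE * (S.ψ m * S.ψ jE) * S.ψ tE
        by group, ← C.comm_t (mul_mem hd C.jmem), mul_assoc _ (S.ψ tE), tt, mul_one]
  rcases cent_quad m k1 k2 k4 k3 with rfl | rfl | rfl | rfl
  · exact h1 (C.cls_eq_one.2 (Or.inl (map_one _)))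
  · exact h1 (C.cls_eq_one.2 (Or.inr rfl))
  · exact C.eE_not_mem hd
  · rw [map_mul] at hd; exact C.eE_not_mem ((Subgroup.mul_mem_cancel_left _ C.tmem).1 hd)

theorem exists_keq_sym (φ : centralizer {S.ψ tE} →* Equiv.Perm (Fin 3))
    (hφ : ∀ c, φ c = 1 ↔ (c : G) ∈ C.F) (hbig : ∃ v : C.V, v ∉ C.Qv) :
    ∃ k : G, KEq S.ψ k true true false true := by
  obtain ⟨d, hd, hde, hd1, hdi, hdj⟩ := C.exists_comm hbig
  obtain ⟨h, hh⟩ := S.fuse
  obtain ⟨htt, htsq, hnot⟩ := C.back_t hh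
  let a' : centralizer ({S.ψ tE} : Set G) := ⟨h⁻¹ * S.ψ tE * h, mem_cent.2 htt⟩
  let c' : centralizer ({S.ψ tE} : Set G) := ⟨h⁻¹ * d * h, mem_cent.2 (back_comm hh hde)⟩
  have haa : φ a' * φ a' = 1 := by rw [← map_mul, show a' * a' = 1 from Subtype.ext htsq, map_one]
  have hca : φ c' * φ a' = φ a' * φ c' := by
    rw [← map_mul, ← map_mul]
    refine congrArg φ (Subtype.ext ?_)
    show h⁻¹ * d * h * (h⁻¹ * S.ψ tE * h) = h⁻¹ * S.ψ tE * h * (h⁻¹ * d * h)
    calc h⁻¹ * d * h * (h⁻¹ * S.ψ tE * h) = h⁻¹ * (d * S.ψ tE) * h := by group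
      _ = h⁻¹ * (S.ψ tE * d) * h := by rw [C.comm_t hd]
      _ = _ := by group
  obtain ⟨g, hg, hge, hgF, hgd⟩ : ∃ (g : G) (hg : g ∈ C.F), g * S.ψ eE = S.ψ eE * g ∧ h⁻¹ * g * h ∈ C.F ∧
      C.cls g hg = C.cls d hd := by
    rcases sym_cent _ haa (fun e => hnot ((hφ a').1 e)) _ hca with e | e
    · exact ⟨d, hd, hde, (hφ c').1 e, rfl⟩
    · refine ⟨d * S.ψ tE, mul_mem hd C.tmem, (Commute.mul_left hde e_comm_t.symm).eq, ?_, ?_⟩
      · have := (hφ (c' * a')).1 (by rw [map_mul, e, haa])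
        have e2 : h⁻¹ * d * h * (h⁻¹ * S.ψ tE * h) = h⁻¹ * (d * S.ψ tE) * h := by group
        rw [← e2]; exact this
      · exact (C.cls_eq.2 (Or.inr rfl)).symm
  have hg1 : g ≠ 1 := fun e => hd1 (hgd ▸ C.cls_eq_one.2 (Or.inl e))
  obtain ⟨n, hn⟩ : ∃ n, orderOf g = 2 ^ n := by
    haveI : Fact (Nat.Prime 2) := ⟨Nat.prime_two⟩
    obtain ⟨n, hn⟩ := IsPGroup.iff_orderOf.1 C.two_group ⟨g, hg⟩
    exact ⟨n, by rwa [Subgroup.orderOf_mk] at hn⟩
  obtain ⟨n, rfl⟩ : ∃ m, n = m + 1 := by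
    refine ⟨n - 1, ?_⟩
    rcases n with _ | n
    · exact absurd (orderOf_eq_one_iff.1 (by rw [hn, pow_zero])) hg1
    · omega
  set k := g ^ 2 ^ n with hk
  have hkF : k ∈ C.F := pow_mem hg _
  have hkb : h⁻¹ * k * h ∈ C.F := by
    rw [show h⁻¹ * k * h = h⁻¹ * k * h⁻¹⁻¹ by group, hk, ← conj_pow, show h⁻¹ * g * h⁻¹⁻¹ = h⁻¹ * g * h by group]
    exact pow_mem hgF _
  have hcls : C.cls k hkF = C.cls g hg ^ 2 ^ n := by rw [cls, cls, ← QuotientGroup.mk_pow]; rfl
  have hk2 : k * k = 1 := by rw [hk, ← pow_add, ← two_mul, ← pow_succ', ← hn, pow_orderOf_eq_one]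
  have hk1 : k ≠ 1 := fun e => by
    have := Nat.le_of_dvd (by positivity) (orderOf_dvd_of_pow_eq_one (show g ^ 2 ^ n = 1 from e))
    rw [hn, pow_succ] at this
    have := Nat.two_pow_pos n
    omega
  have hkt : k ≠ S.ψ tE := fun e => hnot (e ▸ hkb)
  refine ⟨k, C.keq_of hh hkF (Commute.pow_left hge _).eq hkb hk2 ?_ ?_ ?_⟩
  · rw [Ne, C.cls_eq_one]; push Not; exact ⟨hk1, hkt⟩
  · rw [hcls, hgd]; exact hdi.pow_left _
  · rw [hcls, hgd]; exact hdj.pow_left _

theorem exists_keq_alt (φ : centralizer {S.ψ tE} →* alternatingGroup (Fin 5))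
    (hs : Function.Surjective φ) (hsq : ∀ f ∈ C.F, f * f = 1 ∨ f * f = S.ψ tE)
    (hφ : ∀ c, φ c = 1 ↔ (c : G) ∈ C.F) : ∃ k : G, KEq S.ψ k true true false true := by
  classical
  by_contra hno
  obtain ⟨h, hh⟩ := S.fuse
  obtain ⟨htt, htsq, hnot⟩ := C.back_t hh
  have hv2 : ∀ v : C.V, v * v = 1 := fun v => by
    obtain ⟨a, ha, rfl⟩ := C.cls_surj v
    rw [← cls_mul, C.cls_eq_one]; exact hsq a ha
  have hinv : ∀ v : C.V, v⁻¹ = v := fun v => inv_eq_of_mul_eq_one_right (hv2 v)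
  have hcomm : ∀ v w : C.V, v * w = w * v := fun v w => by
    rw [← hinv (v * w), mul_inv_rev, hinv, hinv]
  let a' : centralizer ({S.ψ tE} : Set G) := ⟨h⁻¹ * S.ψ tE * h, mem_cent.2 htt⟩
  have haa : φ a' * φ a' = 1 := by rw [← map_mul, show a' * a' = 1 from Subtype.ext htsq, map_one]
  have ha1 : φ a' ≠ 1 := fun e => hnot ((hφ a').1 e)
  let Fix : Subgroup G := C.F ⊓ centralizer {S.ψ eE}
  let ι : Fix →* centralizer ({S.ψ tE} : Set G) :=
    { toFun := fun g => ⟨h⁻¹ * g * h, mem_cent.2 (back_comm hh (mem_cent.1 g.2.2))⟩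
      map_one' := Subtype.ext (by simp)
      map_mul' := fun a b => Subtype.ext (by show h⁻¹ * (a * b : G) * h = h⁻¹ * a * h * (h⁻¹ * b * h); group) }
  let θ : Fix →* alternatingGroup (Fin 5) := φ.comp ι
  have hθ : ∀ g, θ g * φ a' = φ a' * θ g := fun g => by
    show φ (ι g) * φ a' = φ a' * φ (ι g)
    rw [← map_mul, ← map_mul]
    refine congrArg φ (Subtype.ext ?_)
    show h⁻¹ * g * h * (h⁻¹ * S.ψ tE * h) = h⁻¹ * S.ψ tE * h * (h⁻¹ * g * h)
    calc h⁻¹ * (g : G) * h * (h⁻¹ * S.ψ tE * h) = h⁻¹ * (g * S.ψ tE) * h := by group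
      _ = h⁻¹ * (S.ψ tE * g) * h := by rw [C.comm_t g.2.1]
      _ = _ := by group
  have hfix2 : ∀ g : Fix, (g : G) * g = 1 := fun g => (hsq g g.2.1).resolve_right fun e => hnot (by
    have h4 := alt_cent _ haa ha1 _ (hθ g)
    have h5 := (hφ (ι g * ι g)).1 (by rw [map_mul]; exact h4)
    have : h⁻¹ * (g : G) * h * (h⁻¹ * g * h) = h⁻¹ * S.ψ tE * h := by rw [← e]; group
    rw [← this]; exact h5)
  have hker : ∀ g : Fix, θ g = 1 → g = 1 := fun g hg => by
    have hb : h⁻¹ * (g : G) * h ∈ C.F := (hφ (ι g)).1 hg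
    by_contra hne
    have hg1 : (g : G) ≠ 1 := fun e => hne (Subtype.ext e)
    refine hno ⟨g, C.keq_of hh g.2.1 (mem_cent.1 g.2.2) hb (hfix2 g) ?_ (hcomm _ _) (hcomm _ _)⟩
    rw [Ne, C.cls_eq_one]; push Not; exact ⟨hg1, fun e => hnot (e ▸ hb)⟩
  have hFix4 : Nat.card Fix ≤ 4 := by
    refine (Nat.card_le_card_of_injective
      (fun g => (⟨θ g, hθ g⟩ : {c : alternatingGroup (Fin 5) // c * φ a' = φ a' * c})) fun a b e => ?_).trans ?_
    · exact mul_inv_eq_one.1 (hker _ (by rw [map_mul, map_inv, show θ a = θ b from congrArg Subtype.val e,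
        mul_inv_cancel]))
    · rw [Nat.card_eq_fintype_card, Fintype.card_subtype, alt_cent_card _ haa ha1]
  let clsHom : Fix →* C.V := (QuotientGroup.mk' C.Tq).comp (Subgroup.inclusion inf_le_left)
  have htFix : S.ψ tE ∈ Fix := ⟨C.tmem, mem_cent.2 e_comm_t.symm⟩
  have himg : Nat.card clsHom.range ≤ 2 := by
    have hk : 2 ≤ Nat.card clsHom.ker := by
      refine Finite.one_lt_card_iff_nontrivial.2 ⟨⟨⟨S.ψ tE, htFix⟩, ?_⟩, 1, fun e => ?_⟩
      · exact (QuotientGroup.eq_one_iff _).2 (C.mem_Tq.2 (Or.inr rfl))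
      · exact t_ne (congrArg (fun w : clsHom.ker => ((w : Fix) : G)) e)
    have := Subgroup.card_eq_card_quotient_mul_card_subgroup clsHom.ker
    rw [Nat.card_congr (QuotientGroup.quotientKerEquivRange clsHom).toEquiv] at this
    nlinarith
  let σ : C.V →* C.V := C.actE
  let fixV : Type _ := {v : C.V // σ v = v}
  have hfixV : Nat.card fixV ≤ 4 := by
    let f : clsHom.range × Bool → C.V := fun p => if p.2 then C.iv * p.1 else p.1
    have hsub : ∀ v : fixV, ∃ p, f p = v.1 := fun v => by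
      obtain ⟨d, hd, hde, e | e⟩ := C.lift_fixed v.2
      · exact ⟨(⟨C.cls d hd, ⟨⟨d, hd, mem_cent.2 hde⟩, rfl⟩⟩, false), e⟩
      · refine ⟨(⟨C.cls d hd, ⟨⟨d, hd, mem_cent.2 hde⟩, rfl⟩⟩, true), ?_⟩
        show C.iv * C.cls d hd = v.1
        rw [e, ← mul_assoc, C.iv_sq, one_mul]
    choose p hp using hsub
    have := Nat.card_le_card_of_injective p (fun a b e => Subtype.ext (by rw [← hp a, ← hp b, e]))
    rw [Nat.card_prod, Nat.card_eq_fintype_card (α := Bool), Fintype.card_bool] at this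
    omega
  have hV16 : Nat.card C.V ≤ 16 := by
    let w : C.V →* C.V :=
      { toFun := fun v => v * σ v
        map_one' := by simp
        map_mul' := fun a b => by
          rw [map_mul, mul_assoc a b, ← mul_assoc b (σ a), hcomm b (σ a)]; simp [mul_assoc] }
    have h1 : Nat.card w.range ≤ 4 := by
      refine (Nat.card_le_card_of_injective (fun v : w.range => (⟨v.1, ?_⟩ : fixV)) fun a b e => ?_).trans hfixV
      · obtain ⟨v, u, rfl⟩ := v
        show σ (u * σ u) = u * σ u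
        rw [map_mul, C.actE_actE, hcomm]
      · exact Subtype.ext (congrArg Subtype.val e :)
    have h2 : Nat.card w.ker ≤ 4 := by
      refine (Nat.card_le_card_of_injective (fun v : w.ker => (⟨v.1, ?_⟩ : fixV)) fun a b e => ?_).trans hfixV
      · have := v.2
        show σ v.1 = v.1
        rw [MonoidHom.mem_ker] at this
        exact (mul_eq_one_iff_inv_eq.1 this).symm.trans (hinv _)
      · exact Subtype.ext (congrArg Subtype.val e :)
    have h3 := Subgroup.card_eq_card_quotient_mul_card_subgroup w.ker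
    rw [Nat.card_congr (QuotientGroup.quotientKerEquivRange w).toEquiv] at h3
    rw [h3]
    exact Nat.mul_le_mul h1 h2
  haveI : Fact (Nat.Prime 2) := ⟨Nat.prime_two⟩
  have hVp : IsPGroup 2 C.V := C.two_group.to_quotient C.Tq
  obtain ⟨n, hn⟩ := IsPGroup.iff_card.1 hVp
  -- an element acting with order five
  obtain ⟨a5, ha5, ha51⟩ := alt_five
  obtain ⟨c, hc⟩ := hs a5
  have hc5F : (c : G) * c * c * c * c ∈ C.F := (hφ (c * c * c * c * c)).1 (by simp [map_mul, hc, ha5])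
  let τ : C.V →* C.V := C.act c (mem_cent.1 c.2)
  have htriv : ∀ (f : G) (hf : f ∈ C.F) (v : C.V), C.act f (C.comm_t hf) v = v := fun f hf v => by
    obtain ⟨a, ha, rfl⟩ := C.cls_surj v
    rw [act_cls]
    show C.cls f hf * C.cls a ha * C.cls f⁻¹ (inv_mem hf) = _
    rw [hcomm (C.cls f hf), mul_assoc, ← cls_mul]
    rw [show C.cls (f * f⁻¹) (mul_mem hf (inv_mem hf)) = 1 from C.cls_eq_one.2 (Or.inl (mul_inv_cancel f)), mul_one]
  have hτ5 : ∀ v, τ^[5] v = v := fun v => by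
    show C.act _ _ (C.act _ _ (C.act _ _ (C.act _ _ (C.act _ _ v)))) = v
    rw [C.act_mul, C.act_mul, C.act_mul, C.act_mul]
    have key : ∀ (g : G) (hg : g * S.ψ tE = S.ψ tE * g), g ∈ C.F → C.act g hg v = v := fun g _ hgF => htriv g hgF v
    exact key _ _ (by simpa [mul_assoc] using hc5F)
  let W : Subgroup C.V := MonoidHom.eqLocus τ (MonoidHom.id _)
  have hWne : W ≠ ⊤ := by
    intro hW
    let K : Subgroup (centralizer ({S.ψ tE} : Set G)) :=
      { carrier := {g | ∀ v, C.act (g : G) (mem_cent.1 g.2) v = v}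
        one_mem' := fun v => C.act_one _ rfl v
        mul_mem' := fun {a b} ha hb v => by
          show C.act ((a : G) * b) _ v = v
          rw [← C.act_mul (mem_cent.1 a.2) (mem_cent.1 b.2), hb, ha]
        inv_mem' := fun {a} ha v => by
          show C.act ((a : G)⁻¹) _ v = v
          conv_lhs => rw [← ha v]
          rw [C.act_mul]
          exact C.act_one _ (inv_mul_cancel _) v }
    have hKn : K.Normal := ⟨fun k hk g v => by
      show C.act ((g : G) * k * (g : G)⁻¹) _ v = v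
      rw [← C.act_mul (c := (g : G) * k) (d := (g : G)⁻¹) (mem_cent.1 (g * k).2) (mem_cent.1 g⁻¹.2),
        ← C.act_mul (c := (g : G)) (d := (k : G)) (mem_cent.1 g.2) (mem_cent.1 k.2), hk, C.act_mul]
      exact C.act_one _ (mul_inv_cancel _) v⟩
    haveI := alternatingGroup.isSimpleGroup (α := Fin 5) (by simp)
    rcases (hKn.map φ hs).eq_bot_or_eq_top with e | e
    · refine ha51 ?_
      rw [← hc, ← Subgroup.mem_bot, ← e]
      exact mem_map_of_mem φ fun v => (hW ▸ mem_top v : v ∈ W)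
    · let y : centralizer ({S.ψ tE} : Set G) := ⟨S.ψ yE, mem_cent.2 S.y_facts.1⟩
      obtain ⟨g, hg, hgy⟩ : φ y ∈ K.map φ := e ▸ mem_top _
      have hmem : ((g⁻¹ * y : centralizer ({S.ψ tE} : Set G)) : G) ∈ C.F :=
        (hφ _).1 (by rw [map_mul, map_inv, hgy, inv_mul_cancel])
      have hy : ∀ v, C.actY v = v := fun v => by
        have h1 := hg (C.act _ (C.comm_t hmem) v)
        rw [C.act_mul, htriv _ hmem] at h1
        conv_rhs => rw [← h1]
        show C.act _ _ v = C.act _ _ v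
        congr 2
        simp [y]
      have h4 := C.Qv_card
      haveI hsub : Subsingleton C.V := ⟨fun a b => (C.actY_fpf a (hy a)).trans (C.actY_fpf b (hy b)).symm⟩
      have h1 : Nat.card C.Qv ≤ Nat.card C.V := Subgroup.card_le_card_group _
      have h2 : Nat.card C.V = 1 := Nat.card_eq_one_iff_unique.2 ⟨hsub, inferInstance⟩
      omega
  obtain ⟨k, hk⟩ := IsPGroup.iff_card.1 (hVp.to_subgroup W)
  have hmoved : 5 ∣ Nat.card C.V - Nat.card W := by
    let M : Type _ := {v : C.V // v ∉ W}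
    have hM : Nat.card M = Nat.card C.V - Nat.card W := by
      haveI := Fintype.ofFinite C.V
      simp only [M, Nat.card_eq_fintype_card]
      exact Fintype.card_subtype_compl _
    rw [← hM]
    have hiter : ∀ v : C.V, v ∉ W → τ v ∉ W := fun v hv h1 => hv (by
      have h5 := hτ5 v
      change τ (τ (τ (τ (τ v)))) = v at h5
      change τ (τ v) = τ v at h1
      rw [h1, h1, h1, h1] at h5
      exact h5)
    refine dvd_card_of_fpf (p := 5) (by norm_num) (fun v : M => ⟨τ v.1, hiter v.1 v.2⟩) (fun v => Subtype.ext ?_)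
      fun v h => v.2 (congrArg Subtype.val h)
    exact hτ5 v.1
  have hn4 : n ≤ 4 := by
    by_contra hcon
    have : 2 ^ 5 ≤ 2 ^ n := Nat.pow_le_pow_right (by norm_num) (by omega)
    omega
  have hkn : k < n := by
    by_contra hcon
    have := Nat.pow_le_pow_right (show 0 < 2 by norm_num) (show n ≤ k by omega)
    exact hWne (Subgroup.eq_top_of_le_card W (by omega))
  rw [hn, hk] at hmoved
  obtain ⟨hn', hk'⟩ := two_power_mod_five ⟨n, by omega⟩ ⟨k, by omega⟩ hkn hmoved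
  simp only at hn' hk'
  subst hn' hk'
  have hWbot : W = ⊥ := Subgroup.card_eq_one.1 (by rw [hk, pow_zero])
  -- squares
  obtain ⟨d, hd, hde, hd1, -, -⟩ := C.exists_comm (by
    by_contra hall
    push Not at hall
    have := C.Qv_card
    rw [show C.Qv = ⊤ from (Subgroup.eq_top_iff' _).2 hall, Subgroup.card_top, hn] at this
    omega)
  have hdd : d * d = 1 := hfix2 ⟨d, hd, mem_cent.2 hde⟩
  let P : C.V → Prop := fun v => ∀ a (ha : a ∈ C.F), C.cls a ha = v → a * a = S.ψ tE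
  have hPact : ∀ g (hg : g * S.ψ tE = S.ψ tE * g) (v : C.V), P v → P (C.act g hg v) := by
    intro g hg v hv a ha e
    obtain ⟨b, hb, rfl⟩ := C.cls_surj v
    rw [act_cls, C.cls_eq] at e
    have hb2 := hv b hb rfl
    have hconj : g * b * g⁻¹ * (g * b * g⁻¹) = S.ψ tE := by
      rw [show g * b * g⁻¹ * (g * b * g⁻¹) = g * (b * b) * g⁻¹ by group, hb2, hg, mul_inv_cancel_right]
    rcases e with e | e
    · rw [← e]; exact hconj
    · have ea : a = g * b * g⁻¹ * S.ψ tE := by rw [e, mul_assoc _ (S.ψ tE), tt, mul_one]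
      rw [ea, show g * b * g⁻¹ * S.ψ tE * (g * b * g⁻¹ * S.ψ tE) = g * b * g⁻¹ * (S.ψ tE * (g * b * g⁻¹)) * S.ψ tE
        by group, ← C.comm_t (C.conj_mem hg hb), mul_assoc (g * b * g⁻¹) (g * b * g⁻¹ * S.ψ tE),
        mul_assoc _ (S.ψ tE), tt, mul_one, hconj]
  have hPne : ¬ P 1 := fun hP => t_ne (by have := hP 1 (one_mem _) rfl; rw [one_mul] at this; exact this.symm)
  have divs : ∀ (f : C.V →* C.V) (p : ℕ), p.Prime → (∀ v, f^[p] v = v) → (∀ v, P v → P (f v)) →
      (∀ v, v ≠ 1 → f v ≠ v) → p ∣ Nat.card {v : C.V // v ≠ 1 ∧ P v} ∧ p ∣ Nat.card {v : C.V // v ≠ 1 ∧ ¬ P v} := by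
    intro f p hp hper hP hno'
    have hne : ∀ v, v ≠ 1 → f v ≠ 1 := fun v hv e => hv (by
      rw [← hper v, ← Nat.sub_add_cancel hp.one_le, Function.iterate_succ_apply, e, iterate_map_one])
    have hiter : ∀ (m : ℕ) (v : C.V), P v → P (f^[m] v) := by
      intro m
      induction m with
      | zero => exact fun v hv => hv
      | succ m ih => exact fun v hv => by rw [Function.iterate_succ_apply']; exact hP _ (ih v hv)
    constructor
    · refine dvd_card_of_fpf hp (fun v => ⟨f v.1, hne _ v.2.1, hP _ v.2.2⟩) (fun v => Subtype.ext ?_)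
        fun v h => hno' _ v.2.1 (congrArg Subtype.val h)
      have : ∀ m, ((fun v : {v : C.V // v ≠ 1 ∧ P v} => (⟨f v.1, hne _ v.2.1, hP _ v.2.2⟩ :
          {v : C.V // v ≠ 1 ∧ P v}))^[m] v).1 = f^[m] v.1 := by
        intro m
        induction m with
        | zero => rfl
        | succ m ih => rw [Function.iterate_succ_apply', Function.iterate_succ_apply', ← ih]
      rw [this]; exact hper _
    · have hP' : ∀ v, ¬ P v → ¬ P (f v) := fun v hv h1 => hv (by
        have := hiter (p - 1) _ h1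
        rwa [← Function.iterate_succ_apply f (p - 1), Nat.succ_eq_add_one, Nat.sub_add_cancel hp.one_le, hper]
          at this)
      refine dvd_card_of_fpf hp (fun v => ⟨f v.1, hne _ v.2.1, hP' _ v.2.2⟩) (fun v => Subtype.ext ?_)
        fun v h => hno' _ v.2.1 (congrArg Subtype.val h)
      have : ∀ m, ((fun v : {v : C.V // v ≠ 1 ∧ ¬ P v} => (⟨f v.1, hne _ v.2.1, hP' _ v.2.2⟩ :
          {v : C.V // v ≠ 1 ∧ ¬ P v}))^[m] v).1 = f^[m] v.1 := by
        intro m
        induction m with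
        | zero => rfl
        | succ m ih => rw [Function.iterate_succ_apply', Function.iterate_succ_apply', ← ih]
      rw [this]; exact hper _
  obtain ⟨y3a, y3b⟩ := divs C.actY 3 Nat.prime_three (fun v => by
      show C.actY (C.actY (C.actY v)) = v
      rw [C.actY_actY v, C.actY_actY2])
    (fun v => hPact _ _ v) (fun v hv e => hv (C.actY_fpf v e))
  obtain ⟨c5a, c5b⟩ := divs τ 5 (by norm_num) hτ5 (fun v => hPact _ _ v)
    (fun v hv e => hv ((Subgroup.eq_bot_iff_forall _).1 hWbot v e))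
  have hA : 0 < Nat.card {v : C.V // v ≠ 1 ∧ P v} := by
    haveI : Nonempty {v : C.V // v ≠ 1 ∧ P v} := ⟨⟨C.iv, fun e => by
      rw [iv, C.cls_eq_one] at e
      rcases e with e | e
      · exact four_facts.2.1 (S.inj (by rw [map_one, e]))
      · exact four_facts.2.2.1 (S.inj e), fun a ha e => by
      rw [iv, C.cls_eq] at e
      have ii : S.ψ iE * S.ψ iE = S.ψ tE := by rw [← map_mul, rels_basic.2.2.2.2.2.1]
      rcases e with e | e
      · rw [← e]; exact ii
      · have ea : a = S.ψ iE * S.ψ tE := by rw [e, mul_assoc _ (S.ψ tE), tt, mul_one]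
        rw [ea, show S.ψ iE * S.ψ tE * (S.ψ iE * S.ψ tE) = S.ψ iE * (S.ψ tE * S.ψ iE) * S.ψ tE by group,
          ← C.comm_t C.imem, mul_assoc (S.ψ iE) (S.ψ iE * S.ψ tE), mul_assoc _ (S.ψ tE), tt, mul_one, ii]⟩⟩
    exact Nat.card_pos
  have hB : 0 < Nat.card {v : C.V // v ≠ 1 ∧ ¬ P v} := by
    haveI : Nonempty {v : C.V // v ≠ 1 ∧ ¬ P v} := ⟨⟨C.cls d hd, hd1, fun hP => t_ne (by
      rw [← hP d hd rfl, hdd])⟩⟩
    exact Nat.card_pos
  have hsum : Nat.card {v : C.V // v ≠ 1 ∧ P v} + Nat.card {v : C.V // v ≠ 1 ∧ ¬ P v} ≤ 15 := by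
    haveI := Fintype.ofFinite C.V
    rw [Nat.card_eq_fintype_card, Nat.card_eq_fintype_card, Fintype.card_subtype, Fintype.card_subtype,
      ← Finset.card_union_of_disjoint (Finset.disjoint_filter.2 fun v _ a b => b.2 a.2)]
    refine (Finset.card_le_card (t := Finset.univ.erase 1) fun v hv => ?_).trans ?_
    · simp only [Finset.mem_union, Finset.mem_filter] at hv
      rcases hv with ⟨-, h', -⟩ | ⟨-, h', -⟩ <;> simp [h']
    · rw [Finset.card_erase_of_mem (Finset.mem_univ _), Finset.card_univ, ← Nat.card_eq_fintype_card, hn]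
      norm_num
  have h15a : 15 ∣ Nat.card {v : C.V // v ≠ 1 ∧ P v} :=
    Nat.Coprime.mul_dvd_of_dvd_of_dvd (show Nat.Coprime 3 5 by norm_num) y3a c5a
  have := Nat.le_of_dvd hA h15a
  omega

theorem exists_keq_or_small : (∃ k : G, KEq S.ψ k true true false true) ∨
    (Nat.card C.F = 8 ∧ ∃ φ : centralizer {S.ψ tE} →* Equiv.Perm (Fin 3),
      Function.Surjective φ ∧ ∀ c, φ c = 1 ↔ (c : G) ∈ C.F) := by
  rcases C.kind with ⟨φ, hs, hφ⟩ | ⟨hsq, φ, hs, hφ⟩
  · by_cases hbig : ∃ v : C.V, v ∉ C.Qv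
    · exact Or.inl (C.exists_keq_sym φ hφ hbig)
    · push Not at hbig
      refine Or.inr ⟨?_, φ, hs, hφ⟩
      have := C.Qv_card
      rw [show C.Qv = ⊤ from (Subgroup.eq_top_iff' _).2 hbig, Subgroup.card_top] at this
      rw [C.card_F, this]
  · exact Or.inl (C.exists_keq_alt φ hs hsq hφ)

end Cen

end Cfsg.Lib.AmalgamTwelve
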