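import Cfsg.Agent.AmalgamTwelve.TwoKernel

/-!
Elements of the kernel commuting with the second involution.
-/

set_option autoImplicit false
set_option linter.unusedSectionVars false
set_option linter.style.haveILetI false
set_option maxRecDepth 10000

namespace Cfsg.Lib.AmalgamTwelve

open Subgroup Cfsg.Lib.Order9 Cfsg.Lib.GLTwoThree

theorem four_facts : iE * jE * (jE * iE)⁻¹ = tE ∧ iE ≠ 1 ∧ iE ≠ tE ∧ jE ≠ 1 ∧ jE ≠ tE ∧ jE ≠ iE ∧ jE ≠ iE * tE ∧
    iE * jE ≠ 1 ∧ iE * jE ≠ tE ∧ jE ≠ (1 : A432) ∧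
    (eE * jE * eE⁻¹ = jE ∨ eE * jE * eE⁻¹ = jE * tE ∨ eE * jE * eE⁻¹ = iE * jE ∨ eE * jE * eE⁻¹ = iE * jE * tE) ∧
    (yE * iE * yE⁻¹ = jE ∨ yE * iE * yE⁻¹ = jE * tE ∨ yE * iE * yE⁻¹ = iE * jE ∨ yE * iE * yE⁻¹ = iE * jE * tE) ∧
    (yE * jE * yE⁻¹ = iE ∨ yE * jE * yE⁻¹ = iE * tE ∨ yE * jE * yE⁻¹ = iE * jE ∨ yE * jE * yE⁻¹ = iE * jE * tE) := by
  decide +kernel

variable {G : Type*} [Group G] [Finite G]

namespace Cen

variable {S : Setup G} (C : Cen S)

theorem e_comm_t : S.ψ eE * S.ψ tE = S.ψ tE * S.ψ eE := map_comm S.ψ rels_basic.2.1.symm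

theorem ee : S.ψ eE * S.ψ eE = 1 := by rw [← map_mul, xz_facts.2.2.2.2.2.2.2.2.2.1, map_one]

/-- The class of the first element of order four. -/
def iv : C.V := C.cls (S.ψ iE) C.imem
/-- The class of the second element of order four. -/
def jv : C.V := C.cls (S.ψ jE) C.jmem
/-- The second involution on the kernel modulo the first. -/
def actE : C.V →* C.V := C.act (S.ψ eE) e_comm_t
/-- The element of order three on the kernel modulo the involution. -/
def actY : C.V →* C.V := C.act (S.ψ yE) S.y_facts.1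
/-- The inverse action. -/
def actY2 : C.V →* C.V := C.act (S.ψ yE * S.ψ yE) S.y_facts.2.2.1

theorem cls_psi {m : A432} {hm : S.ψ m ∈ C.F} {n : A432} {hn : S.ψ n ∈ C.F} (h : n = m ∨ n = m * tE) :
    C.cls (S.ψ m) hm = C.cls (S.ψ n) hn := C.cls_eq.2 (by
  rcases h with rfl | rfl
  · exact Or.inl rfl
  · exact Or.inr (map_mul _ _ _))

theorem iv_sq : C.iv * C.iv = 1 := by
  rw [iv, ← cls_mul, C.cls_eq_one]; right; rw [← map_mul, rels_basic.2.2.2.2.2.1]

theorem jv_sq : C.jv * C.jv = 1 := by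
  rw [jv, ← cls_mul, C.cls_eq_one]; right; rw [← map_mul, rels_basic.2.2.2.2.2.2.1]

theorem ij_comm : C.iv * C.jv = C.jv * C.iv := by
  rw [iv, jv, ← cls_mul, ← cls_mul, C.cls_eq]
  right
  rw [← map_mul, ← map_mul, ← map_mul]
  exact congrArg S.ψ (by decide +kernel)

/-- The four classes coming from the affine group. -/
def Qv : Subgroup C.V where
  carrier := {v | v = 1 ∨ v = C.iv ∨ v = C.jv ∨ v = C.iv * C.jv}
  one_mem' := Or.inl rfl
  mul_mem' := by
    have h1 := C.iv_sq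
    have h2 := C.jv_sq
    have h3 := C.ij_comm
    have a1 : C.iv * (C.iv * C.jv) = C.jv := by rw [← mul_assoc, h1, one_mul]
    have a2 : C.jv * (C.iv * C.jv) = C.iv := by rw [← mul_assoc, ← h3, mul_assoc, h2, mul_one]
    have a3 : C.iv * C.jv * C.iv = C.jv := by rw [h3, mul_assoc, h1, mul_one]
    have a4 : C.iv * C.jv * C.jv = C.iv := by rw [mul_assoc, h2, mul_one]
    have a5 : C.iv * C.jv * (C.iv * C.jv) = 1 := by rw [← mul_assoc, a3, h2]
    intro a b ha hb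
    simp only [Set.mem_setOf_eq] at ha hb ⊢
    rcases ha with rfl | rfl | rfl | rfl <;> rcases hb with rfl | rfl | rfl | rfl <;>
      simp [h1, h2, a1, a2, a3, a4, a5, ← h3]
  inv_mem' := by
    intro a ha
    simp only [Set.mem_setOf_eq] at ha ⊢
    have hi : C.iv⁻¹ = C.iv := inv_eq_of_mul_eq_one_right C.iv_sq
    have hj : C.jv⁻¹ = C.jv := inv_eq_of_mul_eq_one_right C.jv_sq
    rcases ha with rfl | rfl | rfl | rfl <;> simp [hi, hj, C.ij_comm]

theorem iv_mem : C.iv ∈ C.Qv := Or.inr (Or.inl rfl)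
theorem jv_mem : C.jv ∈ C.Qv := Or.inr (Or.inr (Or.inl rfl))

theorem cls_mem_Qv {m : A432} (hm : S.ψ m ∈ C.F) (h : m = iE ∨ m = iE * tE ∨ m = jE ∨ m = jE * tE ∨
    m = iE * jE ∨ m = iE * jE * tE) : C.cls (S.ψ m) hm ∈ C.Qv := by
  have hij : C.cls (S.ψ (iE * jE)) (by rw [map_mul]; exact mul_mem C.imem C.jmem) = C.iv * C.jv := by
    rw [iv, jv, ← cls_mul, C.cls_eq]; exact Or.inl (map_mul _ _ _).symm
  have hb : ∀ n, ∀ hn : S.ψ n ∈ C.F, m = n ∨ m = n * tE → C.cls (S.ψ m) hm = C.cls (S.ψ n) hn :=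
    fun n hn e => (C.cls_psi (hm := hn) (hn := hm) e).symm
  rcases h with h | h | h | h | h | h
  · rw [hb iE C.imem (Or.inl h)]; exact C.iv_mem
  · rw [hb iE C.imem (Or.inr h)]; exact C.iv_mem
  · rw [hb jE C.jmem (Or.inl h)]; exact C.jv_mem
  · rw [hb jE C.jmem (Or.inr h)]; exact C.jv_mem
  · rw [hb _ (by rw [map_mul]; exact mul_mem C.imem C.jmem) (Or.inl h), hij]; exact mul_mem C.iv_mem C.jv_mem
  · rw [hb _ (by rw [map_mul]; exact mul_mem C.imem C.jmem) (Or.inr h), hij]; exact mul_mem C.iv_mem C.jv_mem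

theorem act_psi {c : A432} (hc : S.ψ c * S.ψ tE = S.ψ tE * S.ψ c) {m : A432} (hm : S.ψ m ∈ C.F) :
    C.act (S.ψ c) hc (C.cls (S.ψ m) hm) =
      C.cls (S.ψ (c * m * c⁻¹)) (by rw [map_mul, map_mul, map_inv]; exact C.conj_mem hc hm) := by
  rw [act_cls, C.cls_eq]; left; simp [map_mul, map_inv]

theorem actE_iv : C.actE C.iv = C.iv := by
  show C.act _ _ (C.cls _ _) = C.cls _ _
  rw [act_cls, C.cls_eq]
  right
  rw [← map_inv, ← map_mul, ← map_mul, ← map_mul]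
  exact congrArg S.ψ (by decide +kernel)

theorem actE_mem {v : C.V} (hv : v ∈ C.Qv) : C.actE v ∈ C.Qv := by
  have hi : C.actE C.iv ∈ C.Qv := by rw [C.actE_iv]; exact C.iv_mem
  have hj : C.actE C.jv ∈ C.Qv := by
    show C.act _ _ (C.cls _ _) ∈ C.Qv
    rw [C.act_psi]
    exact C.cls_mem_Qv _ (by have := four_facts.2.2.2.2.2.2.2.2.2.2.1; tauto)
  rcases hv with rfl | rfl | rfl | rfl
  · rw [map_one]; exact one_mem _
  · exact hi
  · exact hj
  · rw [map_mul]; exact mul_mem hi hj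

theorem actY_mem {v : C.V} (hv : v ∈ C.Qv) : C.actY v ∈ C.Qv := by
  have hi : C.actY C.iv ∈ C.Qv := by
    show C.act _ _ (C.cls _ _) ∈ C.Qv
    rw [C.act_psi]
    exact C.cls_mem_Qv _ (by have := four_facts.2.2.2.2.2.2.2.2.2.2.2.1; tauto)
  have hj : C.actY C.jv ∈ C.Qv := by
    show C.act _ _ (C.cls _ _) ∈ C.Qv
    rw [C.act_psi]
    exact C.cls_mem_Qv _ (by have := four_facts.2.2.2.2.2.2.2.2.2.2.2.2; tauto)
  rcases hv with rfl | rfl | rfl | rfl
  · rw [map_one]; exact one_mem _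
  · exact hi
  · exact hj
  · rw [map_mul]; exact mul_mem hi hj

theorem actY_actY (v : C.V) : C.actY (C.actY v) = C.actY2 v := C.act_mul _ _ v

theorem actY2_mem {v : C.V} (hv : v ∈ C.Qv) : C.actY2 v ∈ C.Qv := by
  rw [← actY_actY]; exact C.actY_mem (C.actY_mem hv)

theorem actY_actY2 (v : C.V) : C.actY (C.actY2 v) = v := by
  show C.act _ _ (C.act _ _ v) = v
  rw [C.act_mul]
  exact C.act_one _ (by rw [← mul_assoc]; exact S.y_facts.2.1) v

theorem actE_actE (v : C.V) : C.actE (C.actE v) = v := by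
  show C.act _ _ (C.act _ _ v) = v
  rw [C.act_mul]
  exact C.act_one _ ee v

theorem actE_actY (v : C.V) : C.actE (C.actY v) = C.actY2 (C.actE v) := by
  obtain ⟨a, ha, rfl⟩ := C.cls_surj v
  show C.act _ _ (C.act _ _ _) = C.act _ _ (C.act _ _ _)
  rw [act_cls, act_cls, act_cls, act_cls, C.cls_eq]
  left
  have he : (S.ψ eE)⁻¹ = S.ψ eE := inv_eq_of_mul_eq_one_right ee
  have h : S.ψ eE * S.ψ yE * S.ψ eE = S.ψ yE * S.ψ yE := by
    rw [← map_mul, ← map_mul, ← map_mul, fuse_facts.2.2.2.2.2.2.1]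
  have h' : S.ψ eE * S.ψ yE = S.ψ yE * S.ψ yE * S.ψ eE := by
    rw [← h, mul_assoc, ee, mul_one]
  calc S.ψ yE * S.ψ yE * (S.ψ eE * a * (S.ψ eE)⁻¹) * (S.ψ yE * S.ψ yE)⁻¹
      = S.ψ yE * S.ψ yE * S.ψ eE * a * (S.ψ yE * S.ψ yE * S.ψ eE)⁻¹ := by group
    _ = S.ψ eE * S.ψ yE * a * (S.ψ eE * S.ψ yE)⁻¹ := by rw [h']
    _ = _ := by group

theorem actY_fpf (v : C.V) (hv : C.actY v = v) : v = 1 :=
  C.fpf S.y_facts.1 S.y_facts.2.1 S.cent_y v hv

theorem orbit_prod (v : C.V) : v * C.actY2 v * C.actY v = 1 ∧ v * C.actY v * C.actY2 v = 1 := by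
  obtain ⟨a, ha, rfl⟩ := C.cls_surj v
  have hyy : (S.ψ yE)⁻¹ = S.ψ yE * S.ψ yE := inv_eq_of_mul_eq_one_right (by rw [← mul_assoc]; exact S.y_facts.2.1)
  have hy4 : S.ψ yE * S.ψ yE * (S.ψ yE * S.ψ yE) = S.ψ yE := by
    rw [← map_mul, ← map_mul, fuse_facts.2.2.2.2.1]
  have hinv2 : (S.ψ yE * S.ψ yE)⁻¹ = S.ψ yE := by rw [← hyy, inv_inv]
  constructor
  · show C.cls a ha * C.act _ _ _ * C.act _ _ _ = 1
    rw [act_cls, act_cls, ← cls_mul, ← cls_mul, C.cls_eq_one]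
    have h := (C.orb_y ha).2
    have e : a * (S.ψ yE * S.ψ yE * a * (S.ψ yE * S.ψ yE)⁻¹) * (S.ψ yE * a * (S.ψ yE)⁻¹) = orbP a (S.ψ yE) := by
      simp only [orbP]
      rw [hinv2, hyy, hy4]
    rw [e]; exact h
  · show C.cls a ha * C.act _ _ _ * C.act _ _ _ = 1
    rw [act_cls, act_cls, ← cls_mul, ← cls_mul, C.cls_eq_one]
    have h := (C.orb_y2 ha).2
    have e : a * (S.ψ yE * a * (S.ψ yE)⁻¹) * (S.ψ yE * S.ψ yE * a * (S.ψ yE * S.ψ yE)⁻¹) =
        orbP a (S.ψ yE * S.ψ yE) := by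
      simp only [orbP]
      rw [hinv2, hyy, hy4]
    rw [e]; exact h

theorem lift_fixed {v : C.V} (hv : C.actE v = v) :
    ∃ (d : G) (hd : d ∈ C.F), d * S.ψ eE = S.ψ eE * d ∧ (C.cls d hd = v ∨ C.cls d hd = C.iv * v) := by
  obtain ⟨f, hf, rfl⟩ := C.cls_surj v
  change C.act _ _ _ = _ at hv
  rw [act_cls, C.cls_eq] at hv
  rcases hv with e | e
  · exact ⟨f, hf, (mul_inv_eq_iff_eq_mul.1 e.symm).symm, Or.inl rfl⟩
  · refine ⟨S.ψ iE * f, mul_mem C.imem hf, ?_, Or.inr rfl⟩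
    have hi : S.ψ eE * S.ψ iE * (S.ψ eE)⁻¹ = S.ψ tE * S.ψ iE := by
      rw [← map_inv, ← map_mul, ← map_mul, ← map_mul, ie_facts.2.2.2.1]
    have e' : S.ψ eE * f * (S.ψ eE)⁻¹ = f * S.ψ tE := by
      conv_rhs => rw [e]
      rw [mul_assoc _ (S.ψ tE), tt, mul_one]
    have key : S.ψ eE * (S.ψ iE * f) * (S.ψ eE)⁻¹ = S.ψ iE * f := by
      calc S.ψ eE * (S.ψ iE * f) * (S.ψ eE)⁻¹
          = S.ψ eE * S.ψ iE * (S.ψ eE)⁻¹ * (S.ψ eE * f * (S.ψ eE)⁻¹) := by group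
        _ = S.ψ tE * S.ψ iE * (f * S.ψ tE) := by rw [hi, e']
        _ = S.ψ tE * (S.ψ iE * f * S.ψ tE) := by group
        _ = S.ψ tE * (S.ψ tE * (S.ψ iE * f)) := by rw [C.comm_t (mul_mem C.imem hf)]
        _ = _ := by rw [← mul_assoc (S.ψ tE), tt, one_mul]
    exact (mul_inv_eq_iff_eq_mul.1 key).symm

/-- A nontrivial class outside the four gives a further element commuting with the involution. -/
theorem exists_comm (hbig : ∃ v : C.V, v ∉ C.Qv) : ∃ (d : G) (hd : d ∈ C.F), d * S.ψ eE = S.ψ eE * d ∧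
    C.cls d hd ≠ 1 ∧ Commute (C.cls d hd) C.iv ∧ Commute (C.cls d hd) C.jv := by
  have hVp : IsPGroup 2 C.V := C.two_group.to_quotient C.Tq
  obtain ⟨v0, hv0⟩ := hbig
  haveI : Nontrivial C.V := ⟨v0, 1, fun e => hv0 (e ▸ one_mem _)⟩
  obtain ⟨z, hz1, hzc, -, hzf⟩ := exists_fixed_central hVp C.actE C.actE_actE
  obtain ⟨d, hd, hde, e | e⟩ := C.lift_fixed hzf
  · exact ⟨d, hd, hde, e ▸ hz1, e ▸ (mem_center_iff.1 hzc _).symm, e ▸ (mem_center_iff.1 hzc _).symm⟩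
  by_cases hne : C.iv * z ≠ 1
  · have hzi : Commute z C.iv := (mem_center_iff.1 hzc _).symm
    have hzj : Commute z C.jv := (mem_center_iff.1 hzc _).symm
    exact ⟨d, hd, hde, e ▸ hne, e ▸ (Commute.refl C.iv).mul_left hzi,
      e ▸ (show Commute C.iv C.jv from C.ij_comm).mul_left hzj⟩
  -- now the four classes are central
  have hzeq : z = C.iv := mul_left_cancel ((not_not.1 hne).trans C.iv_sq.symm)
  have hic : C.iv ∈ center C.V := hzeq ▸ hzc
  have hact : ∀ w ∈ center C.V, C.actY w ∈ center C.V := fun w hw => mem_center_iff.2 fun g => by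
    rw [← C.actY_actY2 g, ← map_mul, ← map_mul, mem_center_iff.1 hw]
  have hjc : C.jv ∈ center C.V := by
    have h0 := hact _ hic
    have hmem := C.actY_mem C.iv_mem
    rcases hmem with e | e | e | e
    · exfalso
      have := C.actY_actY2 C.iv
      rw [← C.actY_actY, e, map_one, map_one] at this
      have := this.symm
      rw [iv, C.cls_eq_one] at this
      rcases this with h | h
      · exact four_facts.2.1 (S.inj (by rw [map_one, h]))
      · exact four_facts.2.2.1 (S.inj h)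
    · exfalso
      have := C.actY_fpf _ e
      rw [iv, C.cls_eq_one] at this
      rcases this with h | h
      · exact four_facts.2.1 (S.inj (by rw [map_one, h]))
      · exact four_facts.2.2.1 (S.inj h)
    · rw [← e]; exact h0
    · rw [e] at h0; exact (Subgroup.mul_mem_cancel_left _ hic).1 h0
  have hQc : C.Qv ≤ center C.V := by
    rintro v (rfl | rfl | rfl | rfl)
    exacts [one_mem _, hic, hjc, mul_mem hic hjc]
  haveI : C.Qv.Normal := ⟨fun q hq g => by rw [mem_center_iff.1 (hQc hq), mul_inv_cancel_right]; exact hq⟩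
  let σ : C.V ⧸ C.Qv →* C.V ⧸ C.Qv := QuotientGroup.map C.Qv C.Qv C.actE fun v hv => C.actE_mem hv
  haveI : Nontrivial (C.V ⧸ C.Qv) :=
    ⟨QuotientGroup.mk v0, 1, fun e => hv0 ((QuotientGroup.eq_one_iff _).1 e)⟩
  obtain ⟨w, hw1, -, -, hwf⟩ := exists_fixed_central (hVp.to_quotient C.Qv) σ (fun a => by
    obtain ⟨a, rfl⟩ := QuotientGroup.mk_surjective a
    show QuotientGroup.mk (C.actE (C.actE a)) = _
    rw [C.actE_actE])
  obtain ⟨a, rfl⟩ := QuotientGroup.mk_surjective w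
  have hq : a⁻¹ * C.actE a ∈ C.Qv := QuotientGroup.eq.1 hwf.symm
  set q := a⁻¹ * C.actE a with hqdef
  have hea : C.actE a = a * q := by rw [hqdef, mul_inv_cancel_left]
  obtain ⟨o1, o2⟩ := C.orbit_prod a
  have hprod1 : C.actY a * C.actY2 a = a⁻¹ := by
    rw [mul_assoc] at o2; exact eq_inv_of_mul_eq_one_right o2
  have hprod2 : C.actY2 a * C.actY a = a⁻¹ := by
    rw [mul_assoc] at o1; exact eq_inv_of_mul_eq_one_right o1
  have heb : C.actE (C.actY a) = C.actY2 a * C.actY2 q := by rw [C.actE_actY, hea, map_mul]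
  have hq2 := C.actY2_mem hq
  have hfix : C.actE (C.actY a * C.actE (C.actY a)) = C.actY a * C.actE (C.actY a) := by
    rw [map_mul, C.actE_actE, heb, mul_assoc, ← mem_center_iff.1 (hQc hq2) (C.actY a), ← mul_assoc, hprod2,
      ← mul_assoc, hprod1]
  have hout : C.actY a * C.actE (C.actY a) ∉ C.Qv := by
    rw [heb, ← mul_assoc, hprod1, Subgroup.mul_mem_cancel_right _ hq2, inv_mem_iff]
    exact fun h => hw1 ((QuotientGroup.eq_one_iff a).2 h)
  obtain ⟨f, hf, hfe, hcls⟩ := C.lift_fixed hfix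
  refine ⟨f, hf, hfe, fun h1 => ?_, (mem_center_iff.1 hic _), (mem_center_iff.1 hjc _)⟩
  rcases hcls with e | e <;> rw [h1] at e
  · exact hout (e ▸ one_mem _)
  · exact hout (by
      have := C.iv_mem
      rw [← Subgroup.mul_mem_cancel_left _ this, ← e]
      exact one_mem _)

end Cen

end Cfsg.Lib.AmalgamTwelve
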