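import Cfsg.Agent.AmalgamTwelve.Pres
import Cfsg.Agent.AmalgamTwelve.TwelveData
import Cfsg.Agent.M12Cent.Concrete

/-!
The Mathieu group of degree twelve as the group generated by the affine group and the further involution.
-/

set_option autoImplicit false
set_option linter.unusedSectionVars false
set_option maxRecDepth 100000
set_option maxHeartbeats 1000000

namespace Cfsg.Lib.AmalgamTwelve

open Subgroup Cfsg.Lib.PermCert Cfsg.Lib.Golay Cfsg.Lib.Order9 Cfsg.Lib.GLTwoThree
open Cfsg.Lib.M12Cent (X12 x12Equiv x12_simple card_X12)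

/-- code of a vector -/
def vIdx (v : Vec) : ℕ := v.1.val * 3 + v.2.val
/-- code of a matrix -/
def kIdx (k : K48) : ℕ := k.m.1.1.val * 27 + k.m.1.2.val * 9 + k.m.2.1.val * 3 + k.m.2.2.val
/-- word of a translation -/
def vW (v : Vec) : List PP := [vPerm.getD (vIdx v) (0, 0)]
/-- word of a linear map -/
def kW (q : K48) : List PP := [kPerm.getD (kIdx q) (0, 0)]
/-- word of an element of the affine group -/
def aW (m : A432) : List PP := vW m.v ++ kW m.q
/-- word of a letter -/
def lW (l : ℕ) : List PP := if l < 12 then aW (gens.getD l 1) else if l = 12 then [kkPerm] else [pinv kkPerm]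

/-- all permutations used -/
def allPerms : List PP := vPerm ++ kPerm ++ [kkPerm, pinv kkPerm, nPerm]

theorem perms_valid : allPerms.all (valid 24) = true ∧ vPerm.length = 9 ∧ kPerm.length = 81 := by decide +kernel

theorem perms_sift : allPerms.all (fun g => sift 24 m12Chain [g]) = true := by decide +kernel

/-- permutations of the tables -/
def OKP (w : List PP) : Prop := ∀ g ∈ w, g ∈ allPerms

theorem okp_append {w v : List PP} (h : OKP w) (h' : OKP v) : OKP (w ++ v) := fun g hg =>
  (List.mem_append.1 hg).elim (h g) (h' g)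

theorem okp_valid {w : List PP} (h : OKP w) : ∀ g ∈ w, valid 24 g = true := fun g hg =>
  List.all_eq_true.mp perms_valid.1 g (h g hg)

theorem wperm_append (w v : List PP) : wperm 24 (w ++ v) = wperm 24 w * wperm 24 v := by simp [wperm]

theorem okp_mem {w : List PP} (h : OKP w) : wperm 24 w ∈ grp 24 m12Chain := by
  induction w with
  | nil => simp
  | cons g w ih =>
    rw [wperm_cons]
    refine mul_mem ?_ (ih fun x hx => h x (List.mem_cons_of_mem _ hx))
    have := mem_grp_of_sift m12Chain_check (w := [g]) (by simpa using okp_valid h g List.mem_cons_self)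
      (List.all_eq_true.mp perms_sift g (h g List.mem_cons_self))
    simpa using this

theorem ok_vW (v : Vec) : OKP (vW v) := by
  intro g hg
  simp only [vW, List.mem_singleton] at hg
  subst hg
  have hlt : vIdx v < vPerm.length := by
    rw [perms_valid.2.1]; exact (by decide : ∀ v : Vec, vIdx v < 9) v
  rw [List.getD_eq_getElem _ _ hlt]
  simp [allPerms]

theorem ok_kW (q : K48) : OKP (kW q) := by
  intro g hg
  simp only [kW, List.mem_singleton] at hg
  subst hg
  have hlt : kIdx q < kPerm.length := by
    rw [perms_valid.2.2]; exact (by decide +kernel : ∀ q : K48, kIdx q < 81) q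
  rw [List.getD_eq_getElem _ _ hlt]
  simp [allPerms]

theorem ok_aW (m : A432) : OKP (aW m) := okp_append (ok_vW _) (ok_kW _)

theorem ok_lW (l : ℕ) : OKP (lW l) := by
  unfold lW
  split_ifs
  · exact ok_aW _
  · intro g hg; simp at hg; simp [allPerms, hg]
  · intro g hg; simp at hg; simp [allPerms, hg]

theorem wperm_eq {w v : List PP} (hw : OKP w) (hv : OKP v) (h : FusionCert.same w v = true) :
    wperm 24 w = wperm 24 v :=
  FusionCert.same_sound (okp_valid hw) (okp_valid hv) h

theorem vW_hom : ∀ v w : Vec, FusionCert.same (vW v ++ vW w) (vW (v + w)) = true := by decide +kernel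
theorem kW_hom : ∀ p q : K48, FusionCert.same (kW p ++ kW q) (kW (p * q)) = true := by decide +kernel
theorem kv_act : ∀ q : K48, ∀ v : Vec, FusionCert.same (kW q ++ vW v) (vW (app q.m v) ++ kW q) = true := by
  decide +kernel
theorem aW_faithful : ∀ m : A432, m ≠ 1 → isId 24 (aW m) = false := by decide +kernel

theorem aW_mul (a b : A432) : wperm 24 (aW (a * b)) = wperm 24 (aW a) * wperm 24 (aW b) := by
  have hv : ∀ v w, wperm 24 (vW v) * wperm 24 (vW w) = wperm 24 (vW (v + w)) := fun v w => by
    rw [← wperm_append]; exact wperm_eq (okp_append (ok_vW v) (ok_vW w)) (ok_vW _) (vW_hom v w)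
  have hk : ∀ p q, wperm 24 (kW p) * wperm 24 (kW q) = wperm 24 (kW (p * q)) := fun p q => by
    rw [← wperm_append]; exact wperm_eq (okp_append (ok_kW p) (ok_kW q)) (ok_kW _) (kW_hom p q)
  have ha : ∀ (q : K48) (v : Vec), wperm 24 (kW q) * wperm 24 (vW v) = wperm 24 (vW (app q.m v)) * wperm 24 (kW q) :=
    fun q v => by
    rw [← wperm_append, ← wperm_append]
    exact wperm_eq (okp_append (ok_kW q) (ok_vW v)) (okp_append (ok_vW _) (ok_kW q)) (kv_act q v)
  have he : ∀ m : A432, wperm 24 (aW m) = wperm 24 (vW m.v) * wperm 24 (kW m.q) := fun m => wperm_append _ _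
  rw [he, he, he, Aff.mul_def]
  dsimp only
  rw [← hv, ← hk]
  calc wperm 24 (vW a.v) * wperm 24 (vW (app a.q.m b.v)) * (wperm 24 (kW a.q) * wperm 24 (kW b.q))
      = wperm 24 (vW a.v) * (wperm 24 (vW (app a.q.m b.v)) * wperm 24 (kW a.q)) * wperm 24 (kW b.q) := by group
    _ = _ := by rw [← ha]; group

/-- the affine group inside -/
def ψ12 : A432 →* X12 :=
  MonoidHom.mk' (fun m => ⟨wperm 24 (aW m), okp_mem (ok_aW m)⟩) fun a b => Subtype.ext (aW_mul a b)

theorem ψ12_val (m : A432) : (ψ12 m : Equiv.Perm (Fin 24)) = wperm 24 (aW m) := rfl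

theorem ψ12_inj : Function.Injective ψ12 := by
  refine (injective_iff_map_eq_one _).2 fun x hx => ?_
  by_contra h
  have hf := aW_faithful x h
  have h1 : wperm 24 (aW x) = wperm 24 [] := by rw [← ψ12_val, hx]; rfl
  have h2 : isId 24 (aW x) = true := by
    refine List.all_eq_true.mpr fun i hi => beq_iff_eq.2 ?_
    have e := congrArg (fun σ : Equiv.Perm (Fin 24) => (σ ⟨i, List.mem_range.mp hi⟩ : ℕ)) h1
    simpa [wperm_apply (okp_valid (ok_aW x))] using e
  rw [h2] at hf
  exact Bool.noConfusion hf

/-- the involution inside -/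
def k12 : X12 := ⟨wperm 24 [kkPerm], okp_mem (fun g hg => by simp at hg; simp [allPerms, hg])⟩

/-- the normalising element inside -/
def n12 : X12 := ⟨wperm 24 [nPerm], okp_mem (fun g hg => by simp at hg; simp [allPerms, hg])⟩

theorem im12_val (l : ℕ) : ((im ψ12 k12 l : X12) : Equiv.Perm (Fin 24)) = wperm 24 (lW l) := by
  unfold im lW
  split_ifs
  · rfl
  · rfl
  · rw [wperm_cons, wperm_nil, mul_one, perm_pinv (okp_valid (w := [kkPerm])
      (fun g hg => by simp at hg; simp [allPerms, hg]) _ List.mem_cons_self)]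
    simp [k12]

theorem wval12 : ∀ w : List ℕ, ((wval ψ12 k12 w : X12) : Equiv.Perm (Fin 24)) = wperm 24 (w.flatMap lW)
  | [] => rfl
  | l :: w => by
    rw [wval, List.map_cons, List.prod_cons, ← wval, Subgroup.coe_mul, wval12 w, im12_val, List.flatMap_cons,
      wperm_append]

theorem ok_flat (w : List ℕ) : OKP (w.flatMap lW) := fun g hg => by
  obtain ⟨l, -, hl⟩ := List.mem_flatMap.1 hg
  exact ok_lW l g hl

theorem rels12_check : (kRels true true false true).all (fun r => isId 24 (r.flatMap lW)) = true := by decide +kernel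

theorem top_check : (topGens m12Chain).length = topWords.length ∧
    (List.range topWords.length).all (fun i => (topWords.getD i []).all (fun l => decide (l < 14)) &&
      FusionCert.same [(topGens m12Chain).getD i (0, 0)] ((topWords.getD i []).flatMap lW)) = true := by decide +kernel

theorem rels12 : ∀ r ∈ kRels true true false true, wval ψ12 k12 r = 1 := fun r hr =>
  Subtype.ext (by
    rw [wval12, isId_sound (okp_valid (ok_flat r)) (List.all_eq_true.mp rels12_check r hr)]; rfl)

theorem gen12_top : gen ψ12 k12 = ⊤ := by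
  refine (eq_top_iff' _).2 fun x => ?_
  obtain ⟨x, hx⟩ := x
  induction hx using Subgroup.closure_induction with
  | mem g hg =>
    obtain ⟨s, hs, rfl⟩ := hg
    obtain ⟨i, hi, rfl⟩ := List.getElem_of_mem hs
    have hc := List.all_eq_true.mp top_check.2 i (List.mem_range.mpr (top_check.1 ▸ hi))
    simp only [Bool.and_eq_true, List.all_eq_true, decide_eq_true_eq] at hc
    obtain ⟨hlt, hsame⟩ := hc
    rw [List.getD_eq_getElem _ _ hi] at hsame
    have hmem : wval ψ12 k12 (topWords.getD i []) ∈ gen ψ12 k12 := by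
      refine list_prod_mem fun y hy => ?_
      obtain ⟨l, hl, rfl⟩ := List.mem_map.1 hy
      exact subset_closure ⟨l, hlt l hl, rfl⟩
    convert hmem using 1
    refine Subtype.ext ?_
    rw [wval12]
    have := FusionCert.same_sound (w := [(topGens m12Chain)[i]]) (v := (topWords.getD i []).flatMap lW)
      (by simpa using (levelOK (by
        have := m12Chain_check
        simp only [m12Chain, check, Bool.and_eq_true] at this
        exact this.1)).gens_valid _ hs) (okp_valid (ok_flat _)) hsame
    simpa using this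
  | one => exact one_mem _
  | mul a b ha hb iha ihb => exact mul_mem iha ihb
  | inv a ha iha => exact inv_mem iha

theorem n12_check : FusionCert.same ([nPerm] ++ aW zE) (aW (yE * yE) ++ [nPerm]) = true ∧
    FusionCert.same ([nPerm] ++ aW yE) (aW (zE * zE) ++ [nPerm]) = true ∧
    (∀ m : A432, FusionCert.same [nPerm] (aW m) = false) := by decide +kernel

theorem n12_spec : n12 * ψ12 zE = ψ12 (yE * yE) * n12 ∧ n12 * ψ12 yE = ψ12 (zE * zE) * n12 ∧
    n12 ∉ ψ12.range := by
  have hn : OKP [nPerm] := fun g hg => by simp at hg; simp [allPerms, hg]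
  refine ⟨Subtype.ext ?_, Subtype.ext ?_, ?_⟩
  · have := wperm_eq (okp_append hn (ok_aW _)) (okp_append (ok_aW _) hn) n12_check.1
    rwa [wperm_append, wperm_append] at this
  · have := wperm_eq (okp_append hn (ok_aW _)) (okp_append (ok_aW _) hn) n12_check.2.1
    rwa [wperm_append, wperm_append] at this
  · rintro ⟨m, hm⟩
    have := n12_check.2.2 m
    rw [FusionCert.same_of_eq (okp_valid hn) (okp_valid (ok_aW m)) (congrArg Subtype.val hm).symm] at this
    exact Bool.noConfusion this

/-- A group with the affine group and an involution in the exceptional case contains the Mathieu group. -/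
theorem exists_embedding {G : Type*} [Group G] [Finite G] {ψ : A432 →* G} (hψ : ψ ≠ 1) {k : G}
    (h : KEq ψ k true true false true) :
    ∃ f : X12 →* G, Function.Injective f ∧ f.comp ψ12 = ψ ∧ f k12 = k := by
  haveI := x12_simple
  let Ψ : A432 →* X12 × G := ψ12.prod ψ
  let K : X12 × G := (k12, k)
  have hw : ∀ w, wval Ψ K w = (wval ψ12 k12 w, wval ψ k w) := by
    intro w
    induction w with
    | nil => rfl
    | cons l w ih =>
      rw [wval, List.map_cons, List.prod_cons, ← wval, ih, wval, wval, wval, wval, List.map_cons, List.map_cons,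
        List.prod_cons, List.prod_cons]
      unfold im
      split_ifs <;> rfl
  have hrel : ∀ r ∈ kRels true true false true, wval Ψ K r = 1 := fun r hr => by
    rw [hw, rels12 r hr, kRels_one ψ k h r hr]; rfl
  have hS := sound Ψ K (C := logM) rfl rfl (by decide) logM_letters hrel
  have hcard : Nat.card (gen Ψ K) ≤ 95040 := by
    have := hS.card_le logM_ok logM_closed (L := gen Ψ K) le_rfl
    rw [rowsM_len] at this
    refine this.trans (show 220 * Nat.card Ψ.range ≤ 220 * 432 from Nat.mul_le_mul_left _ ?_)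
    refine (Nat.card_le_card_of_surjective Ψ.rangeRestrict Ψ.rangeRestrict_surjective).trans ?_
    rw [Nat.card_eq_fintype_card, card432]
  let p : gen Ψ K →* X12 := (MonoidHom.fst X12 G).comp (gen Ψ K).subtype
  have him : ∀ l, (im Ψ K l).1 = im ψ12 k12 l := fun l => by unfold im; split_ifs <;> rfl
  have hp : Function.Surjective p := by
    rw [← MonoidHom.range_eq_top, MonoidHom.range_comp, range_subtype, eq_top_iff, ← gen12_top, gen, closure_le]
    rintro _ ⟨l, hl, rfl⟩
    exact ⟨im Ψ K l, subset_closure ⟨l, hl, rfl⟩, him l⟩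
  have hge := Nat.card_le_card_of_surjective p hp
  rw [card_X12] at hge
  have hpb : Function.Bijective p :=
    (Nat.bijective_iff_surjective_and_card p).2 ⟨hp, by rw [card_X12]; omega⟩
  let q : X12 ≃* gen Ψ K := (MulEquiv.ofBijective p hpb).symm
  let f : X12 →* G := (MonoidHom.snd X12 G).comp ((gen Ψ K).subtype.comp q.toMonoidHom)
  have hmem : ∀ x : X12 × G, x ∈ gen Ψ K → f x.1 = x.2 := fun x hx => by
    have hq : q x.1 = ⟨x, hx⟩ := (MulEquiv.ofBijective p hpb).symm_apply_eq.2 rfl
    show (q x.1 : X12 × G).2 = x.2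
    rw [hq]
  have hK : K ∈ gen Ψ K := subset_closure ⟨12, by norm_num, by simp [im]⟩
  have hlow : ∀ l : Fin 12, Ψ (gens.getD l 1) ∈ gen Ψ K := fun l =>
    subset_closure ⟨(l : ℕ), Set.mem_Iio.2 (by omega), by rw [im, if_pos l.isLt]⟩
  have hall : ∀ m : A432, Ψ m ∈ gen Ψ K := by
    intro m
    obtain ⟨w, hw', rfl⟩ := gens_generate m
    rw [← wval_low Ψ K w hw']
    refine list_prod_mem fun y hy => ?_
    obtain ⟨l, hl, rfl⟩ := List.mem_map.1 hy
    simp only [List.all_eq_true, decide_eq_true_eq] at hw'
    exact subset_closure ⟨l, Set.mem_Iio.2 (Nat.lt_trans (hw' l hl) (by norm_num)), rfl⟩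
  have hcomp : f.comp ψ12 = ψ := MonoidHom.ext fun m => hmem (Ψ m) (hall m)
  refine ⟨f, ?_, hcomp, hmem K hK⟩
  rw [← MonoidHom.ker_eq_bot_iff]
  refine (Subgroup.Normal.eq_bot_or_eq_top (H := f.ker) inferInstance).resolve_right fun htop => hψ ?_
  rw [← hcomp]
  exact MonoidHom.ext fun m => MonoidHom.mem_ker.1 (show ψ12 m ∈ f.ker by rw [htop]; exact mem_top _)

end Cfsg.Lib.AmalgamTwelve
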