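import Cfsg.Agent.AmalgamTwelve.Core
import Cfsg.Agent.AmalgamTwelve.Twelve
import Cfsg.Agent.Recognition.LinearThreeThree.Main

/-!
The two groups generated by the amalgam.
-/

set_option autoImplicit false
set_option linter.unusedSectionVars false
set_option linter.style.haveILetI false
set_option maxRecDepth 10000

namespace Cfsg.Lib.AmalgamTwelve

open Subgroup Cfsg.Lib.Order9 Cfsg.Lib.GLTwoThree
open Cfsg.Lib.M12Cent (X12 x12Equiv)

/-- The map exchanging the two lines, up to sign. -/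
def wq : K48 := ⟨((0, -1), (-1, 0)), by decide⟩

theorem swap_fact : li wq * zE * (li wq)⁻¹ = xE * xE ∧
    (tE * xE * tE⁻¹ * xE⁻¹) * (tE * xE * tE⁻¹ * xE⁻¹) * (tE * xE * tE⁻¹ * xE⁻¹) = 1 ∧
    tE * xE * tE⁻¹ * xE⁻¹ = xE ∧ tE * zE * tE⁻¹ * zE⁻¹ = zE ∧ eE * yE * eE⁻¹ * yE⁻¹ = yE := by decide +kernel

theorem bruhat : ∀ q : K48, q.m.2.1 ≠ 0 → ∃ b : K48, b.m.2.1 = 0 ∧ (wq⁻¹ * b * q).m.2.1 = 0 := by decide +kernel

theorem through_e : ∀ m : A432, m * xE * m⁻¹ = xE → m * zE * m⁻¹ = zE⁻¹ →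
    ∃ a b : Fin 3, m = xE ^ (a : ℕ) * zE ^ (b : ℕ) * eE := by decide +kernel

theorem non_stab_split (m : A432) (hm : ¬ Stab m) :
    ∃ b : A432, Stab b ∧ Stab ((li wq)⁻¹ * b * m) := by
  obtain ⟨b, hb, hb'⟩ := bruhat m.q hm
  exact ⟨li b, hb, hb'⟩

theorem kill {H : Type*} [CommGroup H] (f : A432 →* H) :
    f xE = 1 ∧ f zE = 1 ∧ f yE = 1 ∧ f tE = 1 ∧ f iE = 1 ∧ f jE = 1 := by
  obtain ⟨-, -, hx, hz, hy⟩ := swap_fact
  obtain ⟨-, -, -, -, -, -, -, -, -, -, -, r_t, r_prod⟩ := rels_basic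
  have com : ∀ a b : A432, f (a * b * a⁻¹ * b⁻¹) = 1 := fun a b => by
    simp only [map_mul, map_inv]
    rw [mul_comm (f a) (f b), mul_inv_cancel_right, mul_inv_cancel]
  have ht : f tE = 1 := r_t ▸ com iE jE
  have hy1 : f yE = 1 := hy ▸ com eE yE
  have hi : f iE = 1 := by
    simp only [List.mem_cons, List.not_mem_nil, or_false] at r_prod
    rcases r_prod with e | e <;> have h := congrArg f e <;>
      simp only [map_mul, map_inv, map_one, hy1, ht, mul_one, one_mul, inv_one, mul_inv_cancel_right] at h <;>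
      exact h
  refine ⟨hx ▸ com tE xE, hz ▸ com tE zE, hy1, ht, hi, ?_⟩
  rcases j_rel with e | e | e | e <;> simp [e, hi, hy1, ht]

theorem kill_all {H : Type*} [CommGroup H] (f : A432 →* H) (he : f eE = 1) : f = 1 := by
  obtain ⟨hx, hz, hy, ht, hi, hj⟩ := kill f
  refine MonoidHom.ext fun m => ?_
  obtain ⟨w, hw, rfl⟩ := gens_generate m
  simp only [List.all_eq_true, decide_eq_true_eq] at hw
  rw [MonoidHom.one_apply, evA, map_list_prod]
  refine List.prod_eq_one fun y hy' => ?_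
  obtain ⟨g, hg, rfl⟩ := List.mem_map.1 hy'
  obtain ⟨l, hl, rfl⟩ := List.mem_map.1 hg
  have := gens_spec ⟨l, hw l hl⟩
  simp only [List.mem_cons, List.not_mem_nil, or_false] at this
  rcases this with e | e | e | e | e | e | e | e | e | e | e | e <;> rw [e] <;>
    simp [hx, hz, hy, ht, hi, hj, he]

variable {G : Type*} [Group G] [Finite G]

theorem commutator_top (W : Amalgam G) : commutator G = ⊤ := by
  obtain ⟨h, hh⟩ := W.fuse
  let ab : G →* Abelianization G := Abelianization.of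
  have hψe : ab (W.ψ eE) = 1 := by
    rw [← hh, map_mul, map_mul, map_inv, mul_comm (ab h), mul_inv_cancel_right]
    exact (kill (ab.comp W.ψ)).2.2.2.1
  have hψ := kill_all (ab.comp W.ψ) hψe
  obtain ⟨m, hm⟩ := W.stab_mem tE tE_stab.1
  have h1 : m * xE * m⁻¹ = xE := W.φ_inj (by
    rw [map_mul, map_mul, map_inv, hm, W.φ_x, ← map_inv, ← map_mul, ← map_mul, tE_stab.2.2.2.2.2.2.2.1])
  have h2 : m * zE * m⁻¹ = zE⁻¹ := W.φ_inj (by
    rw [map_mul, map_mul, map_inv, hm, map_inv W.φ, W.φ_z, ← map_inv, ← map_inv, ← map_mul, ← map_mul,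
      tE_stab.2.2.2.2.2.2.2.2.1])
  have hφe : ab (W.φ eE) = 1 := by
    obtain ⟨a, b, e⟩ := through_e m h1 h2
    have hc : (ab.comp W.φ) m = 1 := by
      show ab (W.φ m) = 1
      rw [hm]
      exact DFunLike.congr_fun hψ tE
    obtain ⟨hx, hz, -⟩ := kill (ab.comp W.φ)
    rw [e, map_mul, map_mul, map_pow, map_pow, hx, hz, one_pow, one_pow, one_mul, one_mul] at hc
    exact hc
  have hφ := kill_all (ab.comp W.φ) hφe
  rw [eq_top_iff, ← W.top, sup_le_iff, ← Abelianization.ker_of G]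
  refine ⟨?_, ?_⟩ <;> rintro _ ⟨m, rfl⟩
  · exact DFunLike.congr_fun hψ m
  · exact DFunLike.congr_fun hφ m

theorem equiv_twelve (W : Amalgam G) {k : G} (hk : KEq W.ψ k true true false true) : Cfsg.Spor.IsoM12 G := by
  have hψ1 : W.ψ ≠ 1 := fun e => xz_facts.2.2.2.2.1 (W.inj (by rw [e]; rfl))
  obtain ⟨f, hf, hcomp, -⟩ := exists_embedding hψ1 hk
  have hval : ∀ m, f (ψ12 m) = W.ψ m := fun m => DFunLike.congr_fun hcomp m
  have hψR : W.ψ.range ≤ f.range := by
    rintro _ ⟨m, rfl⟩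
    exact ⟨ψ12 m, hval m⟩
  obtain ⟨nz, -, nout⟩ := n12_spec
  have hnz : f n12 * W.ψ zE = W.ψ (yE * yE) * f n12 := by rw [← hval, ← hval, ← map_mul, nz, map_mul]
  obtain ⟨s, hs⟩ := W.φ_cent ((W.φ (li wq))⁻¹ * f n12) (by
    have e : W.ψ (yE * yE) = W.φ (li wq) * W.φ zE * (W.φ (li wq))⁻¹ := by
      rw [← map_inv, ← map_mul, ← map_mul, swap_fact.1, map_mul, map_mul, W.φ_x]
    rw [← W.φ_z, e] at hnz
    rw [mul_assoc, hnz]
    group)
  have hn : W.φ (li wq * s) = f n12 := by rw [map_mul, hs, mul_inv_cancel_left]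
  have hns : ¬ Stab (li wq * s) := fun h => by
    obtain ⟨m, hm⟩ := W.φ_stab _ h
    exact nout ⟨m, hf (by rw [hval, hm, hn])⟩
  have hst : ∀ m, Stab m → W.φ m ∈ f.range := fun m hm => hψR (W.φ_stab m hm)
  have hw : W.φ (li wq) ∈ f.range := by
    obtain ⟨b, hb, hb'⟩ := non_stab_split _ hns
    rw [show li wq = b * (li wq * s) * ((li wq)⁻¹ * b * (li wq * s))⁻¹ by group, map_mul, map_mul, map_inv, hn]
    exact mul_mem (mul_mem (hst b hb) ⟨_, rfl⟩) (inv_mem (hst _ hb'))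
  have hφR : W.φ.range ≤ f.range := by
    rintro _ ⟨m, rfl⟩
    by_cases hm : Stab m
    · exact hst m hm
    obtain ⟨b, hb, hb'⟩ := non_stab_split m hm
    rw [show m = b⁻¹ * li wq * ((li wq)⁻¹ * b * m) by group, map_mul, map_mul, map_inv]
    exact mul_mem (mul_mem (inv_mem (hst b hb)) hw) (hst _ hb')
  have hsurj : Function.Surjective f := MonoidHom.range_eq_top.1 (eq_top_iff.2 (W.top ▸ sup_le hψR hφR))
  exact ⟨(MulEquiv.ofBijective f ⟨hf, hsurj⟩).symm.trans x12Equiv⟩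

theorem equiv_linear (W : Amalgam G) (C : Cen W.toSetup) (hF : Nat.card C.F = 8)
    {φ : centralizer {W.ψ tE} →* Equiv.Perm (Fin 3)} (hφs : Function.Surjective φ)
    (hφ : ∀ c, φ c = 1 ↔ (c : G) ∈ C.F) :
    Nonempty (G ≃* Matrix.ProjectiveSpecialLinearGroup (Fin 3) (ZMod 3)) := by
  haveI : Fact (Nat.Prime 3) := ⟨Nat.prime_three⟩
  have hker : φ.ker = C.F.subgroupOf (centralizer {W.ψ tE}) := by
    ext c
    exact (hφ c)
  have hcard : Nat.card (centralizer ({W.ψ tE} : Set G)) = 48 := by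
    rw [Subgroup.card_eq_card_quotient_mul_card_subgroup φ.ker,
      Nat.card_congr (QuotientGroup.quotientKerEquivOfSurjective φ hφs).toEquiv, Nat.card_perm, Nat.card_fin, hker,
      Nat.card_congr (Subgroup.subgroupOfEquivOfLe C.le).toEquiv, hF]
    rfl
  have hmem : ∀ q : K48, W.ψ (li q) ∈ centralizer ({W.ψ tE} : Set G) := fun q =>
    mem_cent.2 (map_comm W.ψ ((cent_tee (li q)).2 rfl))
  let ι : K48 →* centralizer ({W.ψ tE} : Set G) :=
    { toFun := fun q => ⟨W.ψ (li q), hmem q⟩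
      map_one' := Subtype.ext (by show W.ψ (li 1) = 1; rw [show li 1 = (1 : A432) from rfl, map_one])
      map_mul' := fun a b => Subtype.ext (by
        show W.ψ (li (a * b)) = W.ψ (li a) * W.ψ (li b); rw [li_mul, map_mul]) }
  have hι : Function.Bijective ι := (Nat.bijective_iff_injective_and_card ι).2 ⟨fun a b e =>
    congrArg Aff.q (W.inj (congrArg Subtype.val e)), by rw [hcard, Nat.card_eq_fintype_card, card48]⟩
  obtain ⟨e'⟩ := Cfsg.Lib.GLTwoThree.exists_iso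
  have ht : orderOf (W.ψ tE) = 2 := orderOf_eq_prime (by rw [pow_two, Cen.tt]) Cen.t_ne
  obtain ⟨S, -⟩ := Cfsg.Lib.GLTwoThree.exists_setup
    (fun r _ => by rw [commutator_top W]; exact mem_top r) (W.ψ tE) ht
    ⟨(MulEquiv.ofBijective ι hι).symm.trans e'⟩
  have := S.isSimple
  rcases S.order with h | h
  · exact Cfsg.Lib.LThreeThree.equiv_PSL ⟨S, h, S.isSimple⟩
  · exfalso
    have h1 : Nat.card A432 ∣ Nat.card G := by
      rw [Nat.card_congr (MonoidHom.ofInjective W.inj).toEquiv]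
      exact Subgroup.card_subgroup_dvd_card _
    rw [Nat.card_eq_fintype_card, card432, h] at h1
    omega

theorem classify (W : Amalgam G) :
    Cfsg.Spor.IsoM12 G ∨ Nonempty (G ≃* Matrix.ProjectiveSpecialLinearGroup (Fin 3) (ZMod 3)) := by
  obtain ⟨C⟩ := exists_cen W.toSetup
  rcases C.exists_keq_or_small with ⟨k, hk⟩ | ⟨hF, φ, hφs, hφ⟩
  · exact Or.inl (equiv_twelve W hk)
  · exact Or.inr (equiv_linear W C hF hφs hφ)

end Cfsg.Lib.AmalgamTwelve
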