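import Cfsg.Agent.TwoFusion.GLTwoThree.Model

/-!
The affine group `3² : GL(2,3)`, the elements used for the amalgam of two such groups, and its finite checks.
-/

set_option autoImplicit false
set_option maxRecDepth 10000

namespace Cfsg.Lib.AmalgamTwelve

open Cfsg.Lib.Order9 Cfsg.Lib.GLTwoThree

instance actK48 : IsAct K48.m := ⟨rfl, K48.mul_m⟩

/-- The affine group. -/
abbrev A432 : Type := Aff K48.m

/-- A translation. -/
def tr (v : Vec) : A432 := ⟨v, 1⟩
/-- A linear map. -/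
def li (k : K48) : A432 := ⟨0, k⟩

/-- The first translation. -/
def xE : A432 := tr (1, 0)
/-- The translation along the fixed line. -/
def zE : A432 := tr (0, 1)
/-- The transvection. -/
def yE : A432 := li ⟨((1, 1), (0, 1)), by decide⟩
/-- The swap of order four. -/
def iE : A432 := li ⟨((0, 1), (-1, 0)), by decide⟩
/-- The second element of order four. -/
def jE : A432 := li ⟨((1, 1), (1, -1)), by decide⟩
/-- The central involution of the complement. -/
def tE : A432 := li zk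
/-- The involution fixing the first translation. -/
def eE : A432 := li ⟨((1, 0), (0, -1)), by decide⟩

/-- The element stabilises the fixed line. -/
abbrev Stab (m : A432) : Prop := m.q.m.2.1 = 0

/-- The values of the letters. -/
def gens : List A432 :=
  [xE, xE⁻¹, zE, zE⁻¹, yE, yE⁻¹, iE, iE⁻¹, jE, jE⁻¹, tE, eE]

/-- The value of a word in the letters. -/
def evA (w : List ℕ) : A432 := (w.map fun l => gens.getD l 1).prod

theorem card432 : Fintype.card A432 = 432 := by
  rw [Fintype.card_congr Aff.equiv, Fintype.card_prod, card48]; rfl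

theorem mk_eq : ∀ (v : Vec) (k : K48), (⟨v, k⟩ : A432) = tr v * li k := fun v k => by
  rw [tr, li, Aff.mul_def]
  ext1
  · simp [app_zero]
  · simp

theorem tr_add (v w : Vec) : tr (v + w) = tr v * tr w := by
  rw [tr, tr, tr, Aff.mul_def]
  ext1
  · show v + w = v + app (1 : K48).m w
    rw [show (1 : K48).m = idm from rfl, app_idm]
  · simp

theorem li_mul (k l : K48) : li (k * l) = li k * li l := by
  rw [li, li, li, Aff.mul_def]
  ext1
  · simp [app_zero]
  · rfl

theorem xz_facts : xE * xE * xE = 1 ∧ zE * zE * zE = 1 ∧ xE * zE = zE * xE ∧ zE ≠ 1 ∧ xE ≠ 1 ∧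
    yE * yE * yE = 1 ∧ yE ≠ 1 ∧ tE * tE = 1 ∧ tE ≠ 1 ∧ eE * eE = 1 ∧ eE ≠ 1 := by decide +kernel

theorem rels_basic : tE * yE = yE * tE ∧ tE * eE = eE * tE ∧ eE * xE = xE * eE ∧ tE * iE = iE * tE ∧
    tE * jE = jE * tE ∧ iE * iE = tE ∧ jE * jE = tE ∧ eE * yE * eE⁻¹ = yE⁻¹ ∧ tE * xE * tE⁻¹ = xE⁻¹ ∧
    iE * eE * iE⁻¹ = tE * eE ∧ iE * (tE * eE) * iE⁻¹ = eE ∧ iE * jE * iE⁻¹ * jE⁻¹ = tE ∧
    yE * iE * yE⁻¹ * (yE * yE * iE * (yE * yE)⁻¹) * iE⁻¹ ∈ [1, tE] := by decide +kernel

theorem conj_x_z : ∃ c : A432, c * zE * c⁻¹ = xE := by decide +kernel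

theorem cent_xe : ∀ m : A432, m * xE = xE * m → m * eE = eE * m →
    m = 1 ∨ m = xE ∨ m = xE * xE ∨ m = eE ∨ m = eE * xE ∨ m = eE * (xE * xE) := by decide +kernel

theorem cent_quad : ∀ m : A432, m * tE = tE * m → m * eE = eE * m → m * jE = jE * m ∨ m * jE = tE * (jE * m) →
    m * m = 1 → m = 1 ∨ m = tE ∨ m = eE ∨ m = tE * eE := by decide +kernel

theorem cent_tee : ∀ m : A432, m * tE = tE * m ↔ m.v = 0 := by decide +kernel

theorem gens_spec : ∀ l : Fin 12, gens.getD l 1 ∈ [xE, xE⁻¹, zE, zE⁻¹, yE, yE⁻¹, iE, iE⁻¹, jE, jE⁻¹, tE, eE] := by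
  decide +kernel

/-- words for the linear maps, by the code of the matrix -/
def kWords : List (List ℕ) := [[], [], [], [], [], [], [], [], [], [], [], [], [6, 11], [4, 6, 11], [4, 4, 6, 11], [6], [4, 4, 6], [4, 6], [], [], [], [6, 10], [4, 6, 10], [8, 4, 4], [11, 6], [8, 11, 4], [4, 11, 6], [], [], [11], [], [4, 4, 8], [4, 11, 8], [], [4, 8, 6], [4, 4, 8, 11], [], [4], [4, 11], [6, 11, 4], [], [8], [6, 4, 4], [8, 11], [], [], [4, 4], [11, 4], [4, 8], [11, 8], [], [4, 8, 11], [], [8, 6], [], [10, 11], [10], [], [11, 8, 4], [8, 4], [], [8, 4, 11], [4, 6, 4], [], [10, 11, 4], [4, 4, 10], [6, 4, 11], [6, 8], [], [6, 4], [], [6, 8, 11], [], [4, 10, 11], [4, 10], [4, 8, 4], [], [8, 10, 11], [11, 6, 4], [8, 10], []]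

/-- a word for an element -/
def mWord (m : A432) : List ℕ :=
  List.replicate m.v.1.val 0 ++ List.replicate m.v.2.val 2 ++
    kWords.getD (m.q.m.1.1.val * 27 + m.q.m.1.2.val * 9 + m.q.m.2.1.val * 3 + m.q.m.2.2.val) []

theorem mWord_spec : ∀ m : A432, ((mWord m).all fun l => decide (l < 12)) = true ∧ evA (mWord m) = m := by
  decide +kernel

theorem gens_generate (m : A432) : ∃ w : List ℕ, (w.all fun l => decide (l < 12)) = true ∧ evA w = m :=
  ⟨mWord m, mWord_spec m⟩

end Cfsg.Lib.AmalgamTwelve
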