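import Cfsg.Prelude
import Cfsg.Agent.AmalgamTwelve.Affine
import Mathlib.LinearAlgebra.Matrix.GeneralLinearGroup.Card

/-!
Coordinates for the amalgam of two affine groups along the normaliser of a Sylow three-subgroup.
-/

set_option autoImplicit false
set_option linter.unusedSectionVars false
set_option maxRecDepth 10000

namespace Cfsg.Lib.AmalgamTwelve

open Subgroup Cfsg.Lib.Order9 Cfsg.Lib.GLTwoThree

theorem stab_iff : ∀ m : A432, Stab m ↔ (m * zE * m⁻¹ = zE ∨ m * zE * m⁻¹ = zE⁻¹) := by decide +kernel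

theorem root_square : ∀ m : A432, Stab m → m * (m * m) = 1 → m.q ≠ 1 →
    ∃ a : Fin 3, m * (tE * m * tE⁻¹) = zE ^ (a : ℕ) * yE ∨ m * (tE * m * tE⁻¹) = zE ^ (a : ℕ) * yE⁻¹ := by
  decide +kernel

theorem tE_stab : Stab tE ∧ Stab (tE * eE) ∧ Stab yE ∧ Stab eE ∧ zE.q = 1 ∧ xE.q = 1 ∧ yE.q ≠ 1 ∧
    tE * yE * tE⁻¹ = yE ∧ tE * zE * tE⁻¹ = zE⁻¹ ∧ tE * eE * yE * (tE * eE)⁻¹ = yE⁻¹ ∧
    tE * eE * zE * (tE * eE)⁻¹ = zE ∧ tE * eE * (tE * eE) = 1 := by decide +kernel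

theorem conj_diag : ∀ m : A432, m * m = 1 → m * xE * m⁻¹ = xE → m * zE * m⁻¹ = zE⁻¹ → ∀ r : A432, r * r = 1 →
    r * xE * r⁻¹ = xE⁻¹ → r * zE * r⁻¹ = zE → ∃ c : A432, c * m * c⁻¹ = r := by decide +kernel

theorem six_of : ∀ m : A432, m * m = 1 → m * xE * m⁻¹ = xE → m * zE * m⁻¹ = zE⁻¹ → ∀ r : A432,
    r * m = m * r → r * xE = xE * r →
    r = 1 ∨ r = xE ∨ r = xE * xE ∨ r = m ∨ r = m * xE ∨ r = m * (xE * xE) := by decide +kernel

variable {G : Type*} [Group G]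

/-- The affine group in an ambient group, and the facts used about one involution. -/
structure Setup (G : Type*) [Group G] where
  /-- the affine group -/
  ψ : A432 →* G
  inj : Function.Injective ψ
  cent_z : ∀ g : G, g * ψ zE = ψ zE * g → g ∈ ψ.range
  cent_y : ∀ g : G, g * ψ tE = ψ tE * g → g * ψ yE = ψ yE * g →
    g ∈ [1, ψ yE, ψ yE * ψ yE, ψ tE, ψ tE * ψ yE, ψ tE * (ψ yE * ψ yE)]
  fuse : ∃ h : G, h * ψ tE * h⁻¹ = ψ eE

/-- Both affine groups. -/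
structure Amalgam (G : Type*) [Group G] extends Setup G where
  /-- the second affine group -/
  φ : A432 →* G
  φ_inj : Function.Injective φ
  φ_z : φ zE = ψ zE
  φ_x : φ xE = ψ yE
  φ_cent : ∀ g : G, g * φ zE = φ zE * g → g ∈ φ.range
  top : ψ.range ⊔ φ.range = ⊤
  meet : ∀ g : G, g ∈ ψ.range → g ∈ φ.range → ∃ m : A432, Stab m ∧ ψ m = g
  stab_mem : ∀ m : A432, Stab m → ψ m ∈ φ.range
  φ_stab : ∀ m : A432, Stab m → φ m ∈ ψ.range

theorem card_gl : Nat.card (GL (Fin 2) (ZMod 3)) = 48 := by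
  haveI : Fact (Nat.Prime 3) := ⟨Nat.prime_three⟩
  rw [Matrix.card_GL_field]
  simp [Fin.prod_univ_two]

theorem mem_pCore_image {A : Subgroup G} {x : G} :
    x ∈ (Cfsg.pCore 3 A).map A.subtype ↔ ∃ h : x ∈ A, (⟨x, h⟩ : A) ∈ Cfsg.pCore 3 A := by
  constructor
  · rintro ⟨y, hy, rfl⟩; exact ⟨y.2, hy⟩
  · rintro ⟨h, hy⟩; exact ⟨_, hy, rfl⟩

variable [Finite G]

theorem exists_amalgam (A B : Subgroup G) (eAB : Nonempty (A ≃* B)) (hgen : A ⊔ B = ⊤)
    (hSylA : ¬ 3 ∣ ((A ⊓ B).subgroupOf A).index) (hSylB : ¬ 3 ∣ ((A ⊓ B).subgroupOf B).index)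
    (hcore : ∀ N : Subgroup G, N ≤ A ⊓ B → (∀ a ∈ A, N.map (MulAut.conj a).toMonoidHom = N) →
      (∀ b ∈ B, N.map (MulAut.conj b).toMonoidHom = N) → N = ⊥)
    [hnA : (Cfsg.pCore 3 A).Normal] [hnB : (Cfsg.pCore 3 B).Normal]
    (eA : A ⧸ Cfsg.pCore 3 A ≃* GL (Fin 2) (ZMod 3)) (eB : B ⧸ Cfsg.pCore 3 B ≃* GL (Fin 2) (ZMod 3))
    (hOA : IsMulCommutative (Cfsg.pCore 3 A) ∧ (∀ x ∈ Cfsg.pCore 3 A, x ^ 3 = 1) ∧ Nat.card (Cfsg.pCore 3 A) = 9 ∧
      Subgroup.centralizer ((Cfsg.pCore 3 A : Subgroup A) : Set A) = Cfsg.pCore 3 A)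
    (hOB : IsMulCommutative (Cfsg.pCore 3 B) ∧ (∀ x ∈ Cfsg.pCore 3 B, x ^ 3 = 1) ∧ Nat.card (Cfsg.pCore 3 B) = 9 ∧
      Subgroup.centralizer ((Cfsg.pCore 3 B : Subgroup B) : Set B) = Cfsg.pCore 3 B)
    (S : Sylow 3 ↥(A ⊓ B)) (Z : Subgroup G)
    (hZ : Z = ((S : Subgroup ↥(A ⊓ B)) ⊓ Subgroup.centralizer ((S : Subgroup ↥(A ⊓ B)) : Set ↥(A ⊓ B))).map (A ⊓ B).subtype)
    (hNZ : Subgroup.normalizer (Z : Set G) ≤ A ⊓ B) : Nonempty (Amalgam G) := by
  classical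
  haveI : Fact (Nat.Prime 3) := ⟨Nat.prime_three⟩
  obtain ⟨hAc, hA3, hA9, hAcent⟩ := hOA
  obtain ⟨hBc, hB3, hB9, hBcent⟩ := hOB
  have card432' : ∀ (X : Subgroup G) (Q : Subgroup X) [Q.Normal], (X ⧸ Q ≃* GL (Fin 2) (ZMod 3)) → Nat.card Q = 9 →
      Nat.card X = 432 := fun X Q _ e h9 => by
    rw [Subgroup.card_eq_card_quotient_mul_card_subgroup Q, Nat.card_congr e.toEquiv, card_gl, h9]
  have hA := card432' A _ eA hA9
  have hB := card432' B _ eB hB9
  -- the Sylow subgroup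
  have hidx : Nat.card (A ⊓ B : Subgroup G) * ((A ⊓ B).subgroupOf A).index = 432 := by
    rw [← hA, ← Subgroup.card_mul_index ((A ⊓ B).subgroupOf A),
      Nat.card_congr (Subgroup.subgroupOfEquivOfLe (inf_le_left : A ⊓ B ≤ A)).toEquiv]
  have h27 : 27 ∣ Nat.card (A ⊓ B : Subgroup G) :=
    Nat.Coprime.dvd_of_dvd_mul_right ((Nat.prime_three.coprime_iff_not_dvd.2 hSylA).pow_left 3)
      (show 3 ^ 3 ∣ Nat.card (A ⊓ B : Subgroup G) * ((A ⊓ B).subgroupOf A).index by rw [hidx]; norm_num)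
  set SG := (S : Subgroup ↥(A ⊓ B)).map (A ⊓ B).subtype with hSG
  have hSGle : SG ≤ A ⊓ B := Subgroup.map_subtype_le _
  have hScard : Nat.card SG = 27 := by
    rw [hSG, Subgroup.card_map_of_injective (A ⊓ B).subtype_injective, Sylow.card_eq_multiplicity]
    have hH432 : Nat.card (A ⊓ B : Subgroup G) ∣ 432 := ⟨_, hidx.symm⟩
    have h1 : (Nat.card (A ⊓ B : Subgroup G)).factorization 3 ≤ (432 : ℕ).factorization 3 :=
      (Nat.factorization_le_iff_dvd Nat.card_pos.ne' (by norm_num)).2 hH432 3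
    have h2 : 3 ≤ (Nat.card (A ⊓ B : Subgroup G)).factorization 3 :=
      (Nat.prime_three.pow_dvd_iff_le_factorization Nat.card_pos.ne').1 h27
    have h3 : (432 : ℕ).factorization 3 = 3 := by
      rw [show (432 : ℕ) = 2 ^ 4 * 3 ^ 3 by norm_num, Nat.factorization_mul (by norm_num) (by norm_num)]
      rw [Finsupp.add_apply, Nat.Prime.factorization_pow Nat.prime_two, Nat.Prime.factorization_pow Nat.prime_three]
      simp
    rw [show (Nat.card (A ⊓ B : Subgroup G)).factorization 3 = 3 by omega]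
    norm_num
  have inSyl : ∀ (X : Subgroup G), Nat.card X = 432 → SG ≤ X →
      (Cfsg.pCore 3 X).map X.subtype ≤ SG ∨ ¬ IsPGroup 3 (Cfsg.pCore 3 X) ∨ ¬ (Cfsg.pCore 3 X).Normal := by
    intro X hX hle
    by_cases hn : (Cfsg.pCore 3 X).Normal
    swap; · exact Or.inr (Or.inr hn)
    by_cases hp : IsPGroup 3 (Cfsg.pCore 3 X)
    swap; · exact Or.inr (Or.inl hp)
    left
    have hc : Nat.card (SG.subgroupOf X) = 27 := by
      rw [Nat.card_congr (Subgroup.subgroupOfEquivOfLe hle).toEquiv, hScard]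
    have hp27 : IsPGroup 3 (SG.subgroupOf X) := IsPGroup.of_card (n := 3) (by rw [hc]; norm_num)
    let P : Sylow 3 X := hp27.toSylow (by
      have h := (SG.subgroupOf X).card_mul_index
      rw [hc, hX] at h
      omega)
    have := hp.le_sylow_of_normal (H := P)
    rintro _ ⟨x, hx, rfl⟩
    exact this hx
  have hpA : IsPGroup 3 (Cfsg.pCore 3 A) := IsPGroup.of_card (n := 2) (by rw [hA9]; norm_num)
  have hpB : IsPGroup 3 (Cfsg.pCore 3 B) := IsPGroup.of_card (n := 2) (by rw [hB9]; norm_num)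
  set QA := (Cfsg.pCore 3 A).map A.subtype with hQA
  set QB := (Cfsg.pCore 3 B).map B.subtype with hQB
  have hQAS : QA ≤ SG :=
    ((inSyl A hA (hSGle.trans inf_le_left)).resolve_right (by push Not; exact ⟨hpA, hnA⟩))
  have hQBS : QB ≤ SG :=
    ((inSyl B hB (hSGle.trans inf_le_right)).resolve_right (by push Not; exact ⟨hpB, hnB⟩))
  have hQA9 : Nat.card QA = 9 := by rw [hQA, Subgroup.card_map_of_injective A.subtype_injective, hA9]
  have hQB9 : Nat.card QB = 9 := by rw [hQB, Subgroup.card_map_of_injective B.subtype_injective, hB9]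
  have conjQA : ∀ a ∈ A, ∀ q ∈ QA, a * q * a⁻¹ ∈ QA := by
    rintro a ha _ ⟨q, hq, rfl⟩
    exact ⟨_, hnA.conj_mem q hq ⟨a, ha⟩, rfl⟩
  have conjQB : ∀ b ∈ B, ∀ q ∈ QB, b * q * b⁻¹ ∈ QB := by
    rintro b hb _ ⟨q, hq, rfl⟩
    exact ⟨_, hnB.conj_mem q hq ⟨b, hb⟩, rfl⟩
  -- the centre
  have hZmem : ∀ g, g ∈ Z ↔ g ∈ SG ∧ ∀ s ∈ SG, s * g = g * s := by
    intro g
    rw [hZ]
    constructor
    · rintro ⟨x, ⟨hx, hxc⟩, rfl⟩
      refine ⟨⟨x, hx, rfl⟩, ?_⟩
      rintro _ ⟨s, hs, rfl⟩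
      exact congrArg Subtype.val (mem_centralizer_iff.1 hxc s hs)
    · rintro ⟨⟨x, hx, rfl⟩, hc⟩
      exact ⟨x, ⟨hx, mem_centralizer_iff.2 fun s hs => Subtype.ext (hc _ ⟨s, hs, rfl⟩)⟩, rfl⟩
  have centQA : ∀ g ∈ A, (∀ q ∈ QA, q * g = g * q) → g ∈ QA := by
    intro g hg hc
    refine mem_pCore_image.2 ⟨hg, ?_⟩
    rw [← hAcent, mem_centralizer_iff]
    exact fun q hq => Subtype.ext (hc _ ⟨q, hq, rfl⟩)
  have centQB : ∀ g ∈ B, (∀ q ∈ QB, q * g = g * q) → g ∈ QB := by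
    intro g hg hc
    refine mem_pCore_image.2 ⟨hg, ?_⟩
    rw [← hBcent, mem_centralizer_iff]
    exact fun q hq => Subtype.ext (hc _ ⟨q, hq, rfl⟩)
  have hZA : Z ≤ QA := fun g hg => centQA g (hSGle ((hZmem g).1 hg).1).1 fun q hq => ((hZmem g).1 hg).2 q (hQAS hq)
  have hZB : Z ≤ QB := fun g hg => centQB g (hSGle ((hZmem g).1 hg).1).2 fun q hq => ((hZmem g).1 hg).2 q (hQBS hq)
  have hne : QA ≠ QB := by
    intro e
    have hb : QA = ⊥ := by
      refine hcore QA (hQAS.trans hSGle) (fun a ha => ?_) (fun b hb => ?_)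
      · refine Subgroup.ext fun x => ⟨?_, fun hx => ⟨a⁻¹ * x * a, ?_, by simp [mul_assoc]⟩⟩
        · rintro ⟨q, hq, rfl⟩; exact conjQA a ha q hq
        · simpa using conjQA a⁻¹ (A.inv_mem ha) x hx
      · rw [e]
        refine Subgroup.ext fun x => ⟨?_, fun hx => ⟨b⁻¹ * x * b, ?_, by simp [mul_assoc]⟩⟩
        · rintro ⟨q, hq, rfl⟩; exact conjQB b hb q hq
        · simpa using conjQB b⁻¹ (B.inv_mem hb) x hx
    rw [hb] at hQA9
    simp at hQA9
  have hinf : Nat.card (QA ⊓ QB : Subgroup G) = 3 ∨ Nat.card (QA ⊓ QB : Subgroup G) = 1 := by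
    have hd := Subgroup.card_dvd_of_le (inf_le_left : QA ⊓ QB ≤ QA)
    rw [hQA9] at hd
    have : Nat.card (QA ⊓ QB : Subgroup G) ≠ 9 := fun e9 => hne (by
      have e1 : QA ⊓ QB = QA := Subgroup.eq_of_le_of_card_ge inf_le_left (by omega)
      have e2 : QA ⊓ QB = QB := Subgroup.eq_of_le_of_card_ge inf_le_right (by omega)
      rw [← e1, e2])
    obtain ⟨k, hk, e⟩ := (Nat.dvd_prime_pow Nat.prime_three).1 (show _ ∣ 3 ^ 2 by simpa using hd)
    interval_cases k <;> simp_all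
  have hZne : Z ≠ ⊥ := by
    haveI : Nontrivial (S : Subgroup ↥(A ⊓ B)) := by
      rw [Subgroup.nontrivial_iff_ne_bot]
      intro e
      rw [hSG, e, Subgroup.map_bot] at hScard
      simp at hScard
    have := S.isPGroup'.center_nontrivial
    obtain ⟨⟨c, hc⟩, hc1⟩ := exists_ne (1 : Subgroup.center (S : Subgroup ↥(A ⊓ B)))
    intro e
    have : ((c : ↥(A ⊓ B)) : G) ∈ Z := by
      rw [hZmem]
      refine ⟨⟨c, c.2, rfl⟩, ?_⟩
      rintro _ ⟨s, hs, rfl⟩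
      exact congrArg (fun w : (S : Subgroup ↥(A ⊓ B)) => ((w : ↥(A ⊓ B)) : G)) (Subgroup.mem_center_iff.1 hc ⟨s, hs⟩)
    rw [e, Subgroup.mem_bot] at this
    exact hc1 (Subtype.ext (Subtype.ext (Subtype.ext this)))
  have hZle : Z ≤ QA ⊓ QB := le_inf hZA hZB
  have hZ3 : Nat.card Z = 3 ∧ Z = QA ⊓ QB := by
    have h1 : 1 < Nat.card Z := (Subgroup.one_lt_card_iff_ne_bot Z).2 hZne
    have h2 := Subgroup.card_dvd_of_le hZle
    rcases hinf with h | h <;> rw [h] at h2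
    · have h3 : Nat.card Z = 3 := ((Nat.dvd_prime Nat.prime_three).1 h2).resolve_left (by omega)
      exact ⟨h3, Subgroup.eq_of_le_of_card_ge hZle (by omega)⟩
    · exact absurd (Nat.le_of_dvd one_pos h2) (by omega)
  have hHN : (A ⊓ B) ≤ Subgroup.normalizer (Z : Set G) := by
    intro g hg
    rw [hZ3.2, mem_normalizer_iff]
    intro x
    refine ⟨fun hx => ⟨conjQA g hg.1 x hx.1, conjQB g hg.2 x hx.2⟩, fun hx => ?_⟩
    have h1 := conjQA g⁻¹ (A.inv_mem hg.1) _ hx.1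
    have h2 := conjQB g⁻¹ (B.inv_mem hg.2) _ hx.2
    constructor
    · simpa [mul_assoc] using h1
    · simpa [mul_assoc] using h2
  have hNH : Subgroup.normalizer (Z : Set G) = A ⊓ B := le_antisymm hNZ hHN
  -- coordinates in the first group
  obtain ⟨z, hz, hz1⟩ : ∃ z ∈ Z, z ≠ 1 := by
    by_contra h
    push Not at h
    exact hZne ((Subgroup.eq_bot_iff_forall _).2 h)
  have hzord : orderOf z = 3 := by
    have h1 := Subgroup.orderOf_dvd_natCard Z hz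
    rw [hZ3.1] at h1
    exact ((Nat.dvd_prime Nat.prime_three).1 h1).resolve_left (fun e => hz1 (orderOf_eq_one_iff.1 e))
  have hzgen : Z = zpowers z := (Subgroup.eq_of_le_of_card_ge (zpowers_le.2 hz) (by
    rw [Nat.card_zpowers, hzord, hZ3.1])).symm
  obtain ⟨x0, hx0, hx0z⟩ : ∃ x ∈ QA, x ∉ Z := by
    by_contra h
    push Not at h
    have := Subgroup.card_le_of_le (H := QA) (K := Z) h
    omega
  obtain ⟨hx0A, hx0Q⟩ := mem_pCore_image.1 hx0
  obtain ⟨hzA, hzQ⟩ := mem_pCore_image.1 (hZA hz)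
  obtain ⟨Φ, hΦx, hΦz, hΦQ⟩ := exists_affine (Cfsg.pCore 3 A) hAc hA3 hA9 hAcent hA hx0Q hzQ
    (fun e => hz1 (congrArg Subtype.val e)) (by
      rintro ⟨n, hn⟩
      exact hx0z (hzgen ▸ ⟨n, by simpa using congrArg Subtype.val hn⟩))
  let ψ : A432 →* G := A.subtype.comp Φ.toMonoidHom
  have hψinj : Function.Injective ψ := A.subtype_injective.comp Φ.injective
  have hψrange : ψ.range = A := by
    refine Subgroup.ext fun g => ⟨?_, fun hg => ?_⟩
    · rintro ⟨m, rfl⟩; exact (Φ m).2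
    · exact ⟨Φ.symm ⟨g, hg⟩, by simp [ψ]⟩
  have hψz : ψ zE = z := congrArg Subtype.val hΦz
  have hψQ : ∀ m, ψ m ∈ QA ↔ m.q = 1 := by
    intro m
    rw [← hΦQ, hQA, mem_pCore_image]
    exact ⟨fun ⟨_, h⟩ => h, fun h => ⟨(Φ m).2, h⟩⟩
  have hZz : ∀ w, w ∈ Z ↔ w = 1 ∨ w = z ∨ w = z⁻¹ := by
    intro w
    rw [hzgen]
    constructor
    · rintro ⟨n, rfl⟩
      show z ^ n = 1 ∨ z ^ n = z ∨ z ^ n = z⁻¹
      rw [← zpow_mod_orderOf, hzord]
      have h0 := Int.emod_nonneg n (show ((3 : ℕ) : ℤ) ≠ 0 by norm_num)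
      have h3 := Int.emod_lt_of_pos n (show (0 : ℤ) < ((3 : ℕ) : ℤ) by norm_num)
      generalize n % ((3 : ℕ) : ℤ) = r at h0 h3
      norm_num at h3
      interval_cases r
      · simp
      · simp
      · right; right
        rw [zpow_two]
        exact eq_inv_of_mul_eq_one_left (by
          have := pow_orderOf_eq_one z
          rw [hzord] at this
          simpa [pow_succ] using this)
    · rintro (rfl | rfl | rfl)
      · exact one_mem _
      · exact mem_zpowers _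
      · exact inv_mem (mem_zpowers _)
  have hNmem : ∀ g : G, (g * z * g⁻¹ = z ∨ g * z * g⁻¹ = z⁻¹) → g ∈ A ⊓ B := by
    intro g hg
    rw [← hNH]
    refine mem_normalizer_iff.2 fun w => ?_
    have hfw : ∀ w ∈ Z, g * w * g⁻¹ ∈ Z := fun w hw => by
      rcases (hZz w).1 hw with rfl | rfl | rfl
      · simp
      · rcases hg with h | h <;> rw [h]
        · exact hz
        · exact inv_mem hz
      · rw [show g * z⁻¹ * g⁻¹ = (g * z * g⁻¹)⁻¹ by group]
        rcases hg with h | h <;> rw [h]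
        · exact inv_mem hz
        · simpa using hz
    refine ⟨hfw w, fun hw => ?_⟩
    rcases (hZz _).1 hw with e | e | e
    · simp [show w = 1 by simpa using e]
    · rcases hg with h | h
      · rw [← h] at e; simp [show w = z by simpa using e, hz]
      · have : g * w * g⁻¹ = g * z⁻¹ * g⁻¹ := by rw [e, show g * z⁻¹ * g⁻¹ = (g * z * g⁻¹)⁻¹ by group, h, inv_inv]
        simp [show w = z⁻¹ by simpa using this, hz]
    · rcases hg with h | h
      · have : g * w * g⁻¹ = g * z⁻¹ * g⁻¹ := by rw [e, show g * z⁻¹ * g⁻¹ = (g * z * g⁻¹)⁻¹ by group, h]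
        simp [show w = z⁻¹ by simpa using this, hz]
      · rw [← h] at e; simp [show w = z by simpa using e, hz]
  have hHψ : ∀ m, ψ m ∈ (A ⊓ B) ↔ Stab m := by
    intro m
    rw [stab_iff]
    constructor
    · intro hm
      have := ((mem_normalizer_iff.1 (hHN hm)) z).1 hz
      rcases (hZz _).1 this with e | e | e
      · exact absurd (by simpa using e) hz1
      · exact Or.inl (hψinj (by rw [map_mul, map_mul, map_inv, hψz, e]))
      · exact Or.inr (hψinj (by rw [map_mul, map_mul, map_inv, hψz, e, map_inv, hψz]))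
    · intro h
      refine hNmem _ ?_
      rw [← hψz, ← map_inv, ← map_inv, ← map_mul, ← map_mul]
      rcases h with h | h
      · exact Or.inl (congrArg ψ h)
      · exact Or.inr (congrArg ψ h)
  have centz : ∀ g : G, g * z = z * g → g ∈ A ⊓ B := fun g hg => hNmem g (Or.inl (by rw [hg, mul_inv_cancel_right]))
  -- the root element
  have hyB : ψ yE ∈ QB := by
    obtain ⟨w, hw, hwz⟩ : ∃ w ∈ QB, w ∉ Z := by
      by_contra h
      push Not at h
      have := Subgroup.card_le_of_le (H := QB) (K := Z) h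
      omega
    have hwH : w ∈ A ⊓ B := hSGle (hQBS hw)
    obtain ⟨m, rfl⟩ : ∃ m, ψ m = w := by
      have : w ∈ ψ.range := hψrange ▸ hwH.1
      exact this
    have hm : Stab m := (hHψ m).1 hwH
    have hm3 : m * (m * m) = 1 := hψinj (by
      obtain ⟨hwB, hwQ⟩ := mem_pCore_image.1 hw
      have := congrArg Subtype.val (hB3 _ hwQ)
      rw [map_mul, map_mul, map_one]
      simpa [pow_succ, mul_assoc] using this)
    have hmq : m.q ≠ 1 := fun h => hwz (hZ3.2 ▸ ⟨(hψQ m).2 h, hw⟩)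
    have htw : ψ (m * (tE * m * tE⁻¹)) ∈ QB := by
      rw [map_mul, map_mul, map_mul, map_inv]
      exact QB.mul_mem hw (conjQB _ ((hHψ tE).2 tE_stab.1).2 _ hw)
    have hzpow : ∀ a : ℕ, ψ (zE ^ a) ∈ QB := fun a => by
      rw [map_pow, hψz]; exact QB.pow_mem (hZB hz) a
    obtain ⟨a, ha | ha⟩ := root_square m hm hm3 hmq <;> rw [ha, map_mul] at htw
    · exact (Subgroup.mul_mem_cancel_left _ (hzpow a)).1 htw
    · rw [map_inv] at htw
      exact inv_mem_iff.1 ((Subgroup.mul_mem_cancel_left _ (hzpow a)).1 htw)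
  obtain ⟨hyB', hyQ⟩ := mem_pCore_image.1 hyB
  obtain ⟨hzB, hzQB⟩ := mem_pCore_image.1 (hZB hz)
  obtain ⟨Θ, hΘx, hΘz, -⟩ := exists_affine (Cfsg.pCore 3 B) hBc hB3 hB9 hBcent hB hyQ hzQB
    (fun e => hz1 (congrArg Subtype.val e)) (by
      rintro ⟨n, hn⟩
      have hyz : ψ yE ∈ Z := hzgen ▸ ⟨n, by simpa using congrArg Subtype.val hn⟩
      exact tE_stab.2.2.2.2.2.2.1 ((hψQ yE).1 (hZA hyz)))
  let φ : A432 →* G := B.subtype.comp Θ.toMonoidHom
  have hφinj : Function.Injective φ := B.subtype_injective.comp Θ.injective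
  have hφrange : φ.range = B := by
    refine Subgroup.ext fun g => ⟨?_, fun hg => ?_⟩
    · rintro ⟨m, rfl⟩; exact (Θ m).2
    · exact ⟨Θ.symm ⟨g, hg⟩, by simp [φ]⟩
  have hφz : φ zE = z := congrArg Subtype.val hΘz
  have hφx : φ xE = ψ yE := congrArg Subtype.val hΘx
  obtain ⟨m1, hm1⟩ : ∃ m, φ m = ψ tE := by
    have : ψ tE ∈ φ.range := by rw [hφrange]; exact ((hHψ tE).2 tE_stab.1).2
    exact this
  obtain ⟨m2, hm2⟩ : ∃ m, φ m = ψ (tE * eE) := by
    have : ψ (tE * eE) ∈ φ.range := by rw [hφrange]; exact ((hHψ _).2 tE_stab.2.1).2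
    exact this
  obtain ⟨-, -, -, -, -, -, -, ty, tz, uy, uz, usq⟩ := tE_stab
  have a1 : m1 * m1 = 1 := hφinj (by rw [map_mul, hm1, ← map_mul, xz_facts.2.2.2.2.2.2.2.1, map_one, map_one])
  have a2 : m1 * xE * m1⁻¹ = xE := hφinj (by
    rw [map_mul, map_mul, map_inv, hm1, hφx, ← map_inv, ← map_mul, ← map_mul, ty])
  have a3 : m1 * zE * m1⁻¹ = zE⁻¹ := hφinj (by
    rw [map_mul, map_mul, map_inv, hm1, map_inv, hφz, ← hψz, ← map_inv, ← map_inv, ← map_mul, ← map_mul, tz])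
  have b1 : m2 * m2 = 1 := hφinj (by rw [map_mul, hm2, ← map_mul, usq, map_one, map_one])
  have b2 : m2 * xE * m2⁻¹ = xE⁻¹ := hφinj (by
    rw [map_mul, map_mul, map_inv, hm2, map_inv, hφx, ← map_inv, ← map_inv, ← map_mul, ← map_mul, uy])
  have b3 : m2 * zE * m2⁻¹ = zE := hφinj (by
    rw [map_mul, map_mul, map_inv, hm2, hφz, ← hψz, ← map_inv, ← map_mul, ← map_mul, uz])
  refine ⟨{ ψ := ψ, inj := hψinj, cent_z := fun g hg => hψrange ▸ (centz g (hψz ▸ hg)).1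
            cent_y := ?_, fuse := ?_, φ := φ, φ_inj := hφinj, φ_z := hφz.trans hψz.symm, φ_x := hφx
            φ_cent := fun g hg => hφrange ▸ (centz g (hφz ▸ hg)).2
            top := by rw [hψrange, hφrange]; exact hgen
            meet := fun g h1 h2 => ?_
            stab_mem := fun m hm => hφrange ▸ ((hHψ m).2 hm).2
            φ_stab := fun m hm => hψrange ▸ (hNmem (φ m) ?_).1 }⟩
  · intro g hgt hgy
    obtain ⟨c, hc⟩ := conj_x_z
    have hgc : (φ c)⁻¹ * g * φ c ∈ φ.range := by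
      rw [hφrange]
      refine (centz _ ?_).2
      have e : ψ yE = φ c * z * (φ c)⁻¹ := by rw [← hφz, ← map_inv, ← map_mul, ← map_mul, hc, hφx]
      rw [e] at hgy
      calc (φ c)⁻¹ * g * φ c * z = (φ c)⁻¹ * (g * (φ c * z * (φ c)⁻¹)) * φ c := by group
        _ = (φ c)⁻¹ * (φ c * z * (φ c)⁻¹ * g) * φ c := by rw [hgy]
        _ = _ := by group
    obtain ⟨r, hr⟩ : ∃ r, φ r = g := by
      obtain ⟨r, hr⟩ := hgc
      exact ⟨c * r * c⁻¹, by rw [map_mul, map_mul, map_inv, hr]; group⟩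
    subst hr
    have k1 : r * m1 = m1 * r := hφinj (by rw [map_mul, map_mul, hm1, hgt])
    have k2 : r * xE = xE * r := hφinj (by rw [map_mul, map_mul, hφx, hgy])
    rcases six_of m1 a1 a2 a3 r k1 k2 with rfl | rfl | rfl | rfl | rfl | rfl <;>
      simp [map_mul, hφx, hm1]
  · obtain ⟨c, hc⟩ := conj_diag m1 a1 a2 a3 m2 b1 b2 b3
    refine ⟨ψ iE * φ c, ?_⟩
    rw [mul_inv_rev, show ψ iE * φ c * ψ tE * ((φ c)⁻¹ * (ψ iE)⁻¹) = ψ iE * (φ c * ψ tE * (φ c)⁻¹) * (ψ iE)⁻¹ by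
      group, ← hm1, ← map_inv φ, ← map_mul, ← map_mul, hc, hm2, ← map_inv, ← map_mul, ← map_mul]
    exact congrArg ψ rels_basic.2.2.2.2.2.2.2.2.2.2.1
  · obtain ⟨m, rfl⟩ := h1
    exact ⟨m, (hHψ m).1 ⟨hψrange ▸ ⟨m, rfl⟩, hφrange ▸ h2⟩, rfl⟩
  · rw [← hφz, ← map_inv, ← map_inv, ← map_mul, ← map_mul]
    rcases (stab_iff m).1 hm with h | h
    · exact Or.inl (congrArg φ h)
    · exact Or.inr (congrArg φ h)

end Cfsg.Lib.AmalgamTwelve
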