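import Cfsg.Agent.AmalgamTwelve.CentBasic

/-!
The kernel is a two-group.
-/

set_option autoImplicit false
set_option linter.unusedSectionVars false
set_option linter.style.haveILetI false
set_option maxRecDepth 10000

namespace Cfsg.Lib.AmalgamTwelve

open Subgroup Cfsg.Lib.Order9 Cfsg.Lib.GLTwoThree

theorem cent_tij : ∀ m : A432, m * tE = tE * m → m * iE = iE * m → m * jE = jE * m → m = 1 ∨ m = tE := by
  decide +kernel

theorem fuse_facts : xE * xE * xE = 1 ∧ xE ≠ 1 ∧ eE * xE = xE * eE ∧ tE * xE * tE⁻¹ = xE⁻¹ ∧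
    yE * yE * (yE * yE) = yE ∧ (yE * yE)⁻¹ = yE ∧ eE * yE * eE = yE * yE ∧ yE * eE * yE⁻¹ * eE = yE * yE := by
  decide +kernel

variable {G : Type*} [Group G] [Finite G]

theorem Setup.y_facts (S : Setup G) : S.ψ yE * S.ψ tE = S.ψ tE * S.ψ yE ∧ S.ψ yE * S.ψ yE * S.ψ yE = 1 ∧
    (S.ψ yE * S.ψ yE) * S.ψ tE = S.ψ tE * (S.ψ yE * S.ψ yE) ∧
    S.ψ yE * S.ψ yE * (S.ψ yE * S.ψ yE) * (S.ψ yE * S.ψ yE) = 1 := by
  have h1 := map_comm S.ψ rels_basic.1.symm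
  have h3 : S.ψ yE * S.ψ yE * S.ψ yE = 1 := by rw [← map_mul, ← map_mul, xz_facts.2.2.2.2.2.1, map_one]
  refine ⟨h1, h3, (Commute.mul_left h1 h1).eq, ?_⟩
  rw [show S.ψ yE * S.ψ yE * (S.ψ yE * S.ψ yE) * (S.ψ yE * S.ψ yE) =
    S.ψ yE * S.ψ yE * S.ψ yE * (S.ψ yE * S.ψ yE * S.ψ yE) by group, h3, one_mul]

theorem Setup.list_y2 (S : Setup G) (g : G) (hgt : g * S.ψ tE = S.ψ tE * g)
    (hgy : g * (S.ψ yE * S.ψ yE) = S.ψ yE * S.ψ yE * g) :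
    g ∈ [1, S.ψ yE * S.ψ yE, S.ψ yE * S.ψ yE * (S.ψ yE * S.ψ yE), S.ψ tE, S.ψ tE * (S.ψ yE * S.ψ yE),
      S.ψ tE * (S.ψ yE * S.ψ yE * (S.ψ yE * S.ψ yE))] := by
  have e : S.ψ yE * S.ψ yE * (S.ψ yE * S.ψ yE) = S.ψ yE := by
    rw [← map_mul, ← map_mul, fuse_facts.2.2.2.2.1]
  rw [e]
  have h := S.cent_y g hgt (by rw [← e]; exact (Commute.mul_right hgy hgy).eq)
  simp only [List.mem_cons, List.not_mem_nil, or_false] at h ⊢
  tauto

theorem Setup.list_x (S : Setup G) (g : G) (hge : g * S.ψ eE = S.ψ eE * g) (hgx : g * S.ψ xE = S.ψ xE * g) :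
    g ∈ [1, S.ψ xE, S.ψ xE * S.ψ xE, S.ψ eE, S.ψ eE * S.ψ xE, S.ψ eE * (S.ψ xE * S.ψ xE)] := by
  obtain ⟨c, hc⟩ := conj_x_z
  obtain ⟨r, hr⟩ := S.cent_z ((S.ψ c)⁻¹ * g * S.ψ c) (by
    have e : S.ψ xE = S.ψ c * S.ψ zE * (S.ψ c)⁻¹ := by rw [← map_inv, ← map_mul, ← map_mul, hc]
    rw [e] at hgx
    calc (S.ψ c)⁻¹ * g * S.ψ c * S.ψ zE = (S.ψ c)⁻¹ * (g * (S.ψ c * S.ψ zE * (S.ψ c)⁻¹)) * S.ψ c := by group
      _ = (S.ψ c)⁻¹ * (S.ψ c * S.ψ zE * (S.ψ c)⁻¹ * g) * S.ψ c := by rw [hgx]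
      _ = _ := by group)
  obtain ⟨m, rfl⟩ : ∃ m, S.ψ m = g := ⟨c * r * c⁻¹, by rw [map_mul, map_mul, map_inv, hr]; group⟩
  rcases cent_xe m (S.inj (by rw [map_mul, map_mul, hgx])) (S.inj (by rw [map_mul, map_mul, hge])) with
    rfl | rfl | rfl | rfl | rfl | rfl <;> simp [map_mul]

theorem orbP_conj (h d u : G) : orbP (h * d * h⁻¹) (h * u * h⁻¹) = h * orbP d u * h⁻¹ := by
  simp only [orbP]; group

namespace Cen

variable {S : Setup G} (C : Cen S) {h : G} (hh : h * S.ψ tE * h⁻¹ = S.ψ eE)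

include hh

theorem back_comm {d : G} (hd : d * S.ψ eE = S.ψ eE * d) : h⁻¹ * d * h * S.ψ tE = S.ψ tE * (h⁻¹ * d * h) := by
  rw [← hh] at hd
  calc h⁻¹ * d * h * S.ψ tE = h⁻¹ * (d * (h * S.ψ tE * h⁻¹)) * h := by group
    _ = h⁻¹ * (h * S.ψ tE * h⁻¹ * d) * h := by rw [hd]
    _ = _ := by group

theorem fwd_comm {d : G} (hd : d * S.ψ tE = S.ψ tE * d) : h * d * h⁻¹ * S.ψ eE = S.ψ eE * (h * d * h⁻¹) := by
  rw [← hh]
  calc h * d * h⁻¹ * (h * S.ψ tE * h⁻¹) = h * (d * S.ψ tE) * h⁻¹ := by group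
    _ = h * (S.ψ tE * d) * h⁻¹ := by rw [hd]
    _ = _ := by group

theorem back_t : h⁻¹ * S.ψ tE * h * S.ψ tE = S.ψ tE * (h⁻¹ * S.ψ tE * h) ∧
    h⁻¹ * S.ψ tE * h * (h⁻¹ * S.ψ tE * h) = 1 ∧ h⁻¹ * S.ψ tE * h ∉ C.F := by
  refine ⟨back_comm hh (map_comm S.ψ rels_basic.2.1), ?_, ?_⟩
  · rw [show h⁻¹ * S.ψ tE * h * (h⁻¹ * S.ψ tE * h) = h⁻¹ * (S.ψ tE * S.ψ tE) * h by group, tt, mul_one,
      inv_mul_cancel]
  · obtain ⟨x3, x1, ex, tx, -⟩ := fuse_facts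
    refine C.not_mem_of_inverts (u := h⁻¹ * S.ψ xE * h) ?_ ?_ (back_comm hh (map_comm S.ψ ex.symm)) ?_
    · rw [show h⁻¹ * S.ψ xE * h * (h⁻¹ * S.ψ xE * h) * (h⁻¹ * S.ψ xE * h) = h⁻¹ * (S.ψ xE * S.ψ xE * S.ψ xE) * h by
        group, ← map_mul, ← map_mul, x3, map_one, mul_one, inv_mul_cancel]
    · intro e
      refine x1 (S.inj ?_)
      rw [map_one, show S.ψ xE = h * (h⁻¹ * S.ψ xE * h) * h⁻¹ by group, e, mul_one, mul_inv_cancel]
    · rw [show h⁻¹ * S.ψ tE * h * (h⁻¹ * S.ψ xE * h) * (h⁻¹ * S.ψ tE * h)⁻¹ =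
        h⁻¹ * (S.ψ tE * S.ψ xE * (S.ψ tE)⁻¹) * h by group, ← map_inv, ← map_mul, ← map_mul, tx, map_inv]
      group

/-- The orbit product for the second involution. -/
theorem orb_x {d : G} (hd : h⁻¹ * d * h ∈ C.F) :
    h⁻¹ * orbP d (S.ψ xE) * h ∈ C.F ∧ (orbP d (S.ψ xE) = 1 ∨ orbP d (S.ψ xE) = S.ψ eE) := by
  obtain ⟨x3, x1, ex, -⟩ := fuse_facts
  obtain ⟨h1, h2⟩ := C.orb (u := h⁻¹ * S.ψ xE * h) (back_comm hh (map_comm S.ψ ex.symm))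
    (by rw [show h⁻¹ * S.ψ xE * h * (h⁻¹ * S.ψ xE * h) * (h⁻¹ * S.ψ xE * h) =
        h⁻¹ * (S.ψ xE * S.ψ xE * S.ψ xE) * h by group, ← map_mul, ← map_mul, x3, map_one, mul_one, inv_mul_cancel])
    (fun g hgt hgu => by
      have l := S.list_x (h * g * h⁻¹) (fwd_comm hh hgt) (by
        calc h * g * h⁻¹ * S.ψ xE = h * (g * (h⁻¹ * S.ψ xE * h)) * h⁻¹ := by group
          _ = h * (h⁻¹ * S.ψ xE * h * g) * h⁻¹ := by rw [hgu]
          _ = _ := by group)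
      simp only [List.mem_cons, List.not_mem_nil, or_false] at l ⊢
      have back : ∀ w : G, h * g * h⁻¹ = w → g = h⁻¹ * w * h := fun w e => by rw [← e]; group
      rw [← hh] at l
      rcases l with e | e | e | e | e | e <;> rw [back _ e]
      · left; group
      · right; left; rfl
      · right; right; left; group
      · right; right; right; left; group
      · right; right; right; right; left; group
      · right; right; right; right; right; group) hd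
  have e : h⁻¹ * orbP d (S.ψ xE) * h = orbP (h⁻¹ * d * h) (h⁻¹ * S.ψ xE * h) := by
    simp only [orbP]; group
  rw [← e] at h1 h2
  refine ⟨h1, ?_⟩
  rcases h2 with e2 | e2
  · left; rw [show orbP d (S.ψ xE) = h * (h⁻¹ * orbP d (S.ψ xE) * h) * h⁻¹ by group, e2, mul_one, mul_inv_cancel]
  · right; rw [show orbP d (S.ψ xE) = h * (h⁻¹ * orbP d (S.ψ xE) * h) * h⁻¹ by group, e2, hh]

omit hh

theorem orb_y {d : G} (hd : d ∈ C.F) :
    orbP d (S.ψ yE) ∈ C.F ∧ (orbP d (S.ψ yE) = 1 ∨ orbP d (S.ψ yE) = S.ψ tE) :=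
  C.orb S.y_facts.1 S.y_facts.2.1 S.cent_y hd

theorem orb_y2 {d : G} (hd : d ∈ C.F) :
    orbP d (S.ψ yE * S.ψ yE) ∈ C.F ∧
      (orbP d (S.ψ yE * S.ψ yE) = 1 ∨ orbP d (S.ψ yE * S.ψ yE) = S.ψ tE) :=
  C.orb S.y_facts.2.2.1 S.y_facts.2.2.2 S.list_y2 hd

theorem odd_mul_F {a b : G} (ha : a ∈ C.F) (hb : b ∈ C.F) (oa : Odd (orderOf a)) (ob : Odd (orderOf b)) :
    Odd (orderOf (a * b)) := by
  haveI := C.nilp
  have := odd_mul (x := (⟨a, ha⟩ : C.F)) (y := ⟨b, hb⟩) (by rwa [Subgroup.orderOf_mk]) (by rwa [Subgroup.orderOf_mk])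
  rwa [← Subgroup.orderOf_coe] at this

theorem orderOf_conj' (g a : G) : orderOf (g * a * g⁻¹) = orderOf a := by
  rw [← MulAut.conj_apply]; exact (MulAut.conj g).orderOf_eq a

theorem odd_orb {d u : G} (hut : u * S.ψ tE = S.ψ tE * u) (hd : d ∈ C.F) (o : Odd (orderOf d)) :
    Odd (orderOf (orbP d u)) := by
  have hiut : u⁻¹ * S.ψ tE = S.ψ tE * u⁻¹ := (Commute.inv_left hut).eq
  have h1 := C.conj_mem' hut hd
  have h2 : u⁻¹ * u⁻¹ * d * (u * u) ∈ C.F := by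
    simpa [mul_assoc] using C.conj_mem (Commute.mul_left hiut hiut).eq hd
  have o1 : Odd (orderOf (u⁻¹ * d * u)) := by
    rw [show u⁻¹ * d * u = u⁻¹ * d * u⁻¹⁻¹ by group, orderOf_conj']; exact o
  have o2 : Odd (orderOf (u⁻¹ * u⁻¹ * d * (u * u))) := by
    rw [show u * u = (u⁻¹ * u⁻¹)⁻¹ by rw [mul_inv_rev, inv_inv], orderOf_conj']; exact o
  exact C.odd_mul_F (mul_mem hd h1) h2 (C.odd_mul_F hd h1 o o1) o2

theorem odd_one {w : G} (o : Odd (orderOf w)) (h : w = 1 ∨ w = S.ψ tE) : w = 1 := by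
  refine h.resolve_right fun e => ?_
  rw [e, orderOf_eq_prime (p := 2) (by rw [pow_two, tt]) t_ne] at o
  exact absurd o (by decide)

theorem odd_commute_one {d : G} (hd : d ∈ C.F) (o : Odd (orderOf d)) (hde : d * S.ψ eE = S.ψ eE * d) : d = 1 := by
  haveI := C.nilp
  obtain ⟨h, hh⟩ := S.fuse
  have hcomm : ∀ q : A432, S.ψ q ∈ C.F → q * q = tE → d * S.ψ q = S.ψ q * d := fun q hq hqq => by
    refine (Cfsg.Lib.PGLCover.commute_of_coprime hd hq ?_).eq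
    have h4 : orderOf (S.ψ q) ∣ 2 ^ 2 := orderOf_dvd_of_pow_eq_one (by
      rw [show (2 : ℕ) ^ 2 = 2 * 2 from rfl, pow_mul, pow_two (S.ψ q), ← map_mul, hqq, pow_two, tt])
    exact Nat.Coprime.coprime_dvd_right h4 (Nat.Coprime.pow_right 2 (Nat.coprime_two_right.2 o))
  obtain ⟨htt, -, hnot⟩ := C.back_t hh
  have hback : h⁻¹ * d * h ∈ C.F := C.odd_mem htt (C.back_t hh).2.1 hnot (back_comm hh hde) (by
    calc h⁻¹ * d * h * (h⁻¹ * S.ψ tE * h) = h⁻¹ * (d * S.ψ tE) * h := by group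
      _ = h⁻¹ * (S.ψ tE * d) * h := by rw [C.comm_t hd]
      _ = _ := by group) (by rw [show h⁻¹ * d * h = h⁻¹ * d * h⁻¹⁻¹ by group, orderOf_conj']; exact o)
  obtain ⟨-, -, -, -, -, i2, j2, -⟩ := rels_basic
  have ki := hcomm iE C.imem i2
  have kj := hcomm jE C.jmem j2
  have hD : DEq S.ψ d := by
    refine ⟨?_, ?_, ?_, ?_, odd_one (C.odd_orb S.y_facts.1 hd o) (C.orb_y hd).2, ?_⟩
    · rw [C.comm_t hd, mul_inv_cancel_right, tt]
    · rw [hde, mul_inv_cancel_right, ← map_mul, xz_facts.2.2.2.2.2.2.2.2.2.1, map_one]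
    · rw [ki, mul_inv_cancel_right, mul_inv_cancel]
    · rw [kj, mul_inv_cancel_right, mul_inv_cancel]
    · have ox : Odd (orderOf (h⁻¹ * orbP d (S.ψ xE) * h)) := by
        rw [show h⁻¹ * orbP d (S.ψ xE) * h = orbP (h⁻¹ * d * h) (h⁻¹ * S.ψ xE * h) by simp only [orbP]; group]
        exact C.odd_orb (back_comm hh (map_comm S.ψ fuse_facts.2.2.1.symm)) hback (by
          rw [show h⁻¹ * d * h = h⁻¹ * d * h⁻¹⁻¹ by group, orderOf_conj']; exact o)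
      rw [show h⁻¹ * orbP d (S.ψ xE) * h = h⁻¹ * orbP d (S.ψ xE) * h⁻¹⁻¹ by group, orderOf_conj'] at ox
      refine (C.orb_x hh hback).2.resolve_right fun e => ?_
      rw [e, orderOf_eq_prime (p := 2) (by rw [pow_two, ← map_mul, xz_facts.2.2.2.2.2.2.2.2.2.1, map_one])
        (fun e => xz_facts.2.2.2.2.2.2.2.2.2.2 (S.inj (by rw [map_one, e])))] at ox
      exact absurd ox (by decide)
  obtain ⟨m, hm⟩ := cube_mem S.ψ d hD
  have c3 : ∀ q, d * S.ψ q = S.ψ q * d → m * q = q * m := fun q hq => S.inj (by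
    rw [map_mul, map_mul, hm]
    exact (Commute.mul_left hq (Commute.mul_left hq hq)).eq)
  have h3 : d * (d * d) = 1 := by
    rw [← hm]
    refine odd_one (S := S) ?_ ?_
    · rw [hm, show d * (d * d) = d ^ 3 by rw [pow_succ, pow_two, mul_assoc]]
      exact o.of_dvd_nat (orderOf_pow_dvd 3)
    · rcases cent_tij m (c3 tE (C.comm_t hd)) (c3 iE ki) (c3 jE kj) with e | e <;> rw [e]
      · exact Or.inl (map_one _)
      · exact Or.inr rfl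
  exact C.order_three (by rw [mul_assoc, h3]) hd

theorem odd_inverted {a : G} (ha : a ∈ C.F) (o : Odd (orderOf a)) : S.ψ eE * a * (S.ψ eE)⁻¹ = a⁻¹ := by
  classical
  have het : S.ψ eE * S.ψ tE = S.ψ tE * S.ψ eE := map_comm S.ψ rels_basic.2.1.symm
  have hee : S.ψ eE * S.ψ eE = 1 := by rw [← map_mul, xz_facts.2.2.2.2.2.2.2.2.2.1, map_one]
  let W : Type _ := {a : G // a ∈ C.F ∧ Odd (orderOf a)}
  let f : W → W := fun b => ⟨b.1⁻¹ * (S.ψ eE * b.1 * (S.ψ eE)⁻¹),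
    mul_mem (inv_mem b.2.1) (C.conj_mem het b.2.1),
    C.odd_mul_F (inv_mem b.2.1) (C.conj_mem het b.2.1) (by rw [orderOf_inv]; exact b.2.2)
      (by rw [orderOf_conj']; exact b.2.2)⟩
  have hinj : Function.Injective f := by
    rintro ⟨b, hb, ob⟩ ⟨c, hc, oc⟩ e
    have e' : b⁻¹ * (S.ψ eE * b * (S.ψ eE)⁻¹) = c⁻¹ * (S.ψ eE * c * (S.ψ eE)⁻¹) := congrArg Subtype.val e
    have h1 := C.odd_commute_one (mul_mem hc (inv_mem hb))
      (C.odd_mul_F hc (inv_mem hb) oc (by rw [orderOf_inv]; exact ob)) (by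
      rw [← mul_inv_eq_iff_eq_mul]
      have e2 : S.ψ eE * c * (S.ψ eE)⁻¹ = c * (b⁻¹ * (S.ψ eE * b * (S.ψ eE)⁻¹)) := by
        rw [e', mul_inv_cancel_left]
      have hinv : (S.ψ eE)⁻¹ = S.ψ eE := inv_eq_of_mul_eq_one_right hee
      calc c * b⁻¹ * S.ψ eE * (c * b⁻¹)⁻¹
          = c * (b⁻¹ * (S.ψ eE * b * (S.ψ eE)⁻¹)) * S.ψ eE * c⁻¹ := by group
        _ = S.ψ eE * c * (S.ψ eE)⁻¹ * S.ψ eE * c⁻¹ := by rw [e2]
        _ = _ := by group)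
    exact Subtype.ext (mul_inv_eq_one.1 h1).symm
  obtain ⟨⟨b, hb, ob⟩, e⟩ := Finite.injective_iff_surjective.1 hinj ⟨a, ha, o⟩
  rw [← (show b⁻¹ * (S.ψ eE * b * (S.ψ eE)⁻¹) = a from congrArg Subtype.val e), inv_eq_of_mul_eq_one_right hee]
  calc S.ψ eE * (b⁻¹ * (S.ψ eE * b * S.ψ eE)) * S.ψ eE
      = S.ψ eE * b⁻¹ * S.ψ eE * b * (S.ψ eE * S.ψ eE) := by group
    _ = S.ψ eE * b⁻¹ * S.ψ eE * b := by rw [hee, mul_one]
    _ = _ := by rw [mul_inv_rev, mul_inv_rev, mul_inv_rev, inv_inv, inv_eq_of_mul_eq_one_right hee]; group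

theorem two_group : IsPGroup 2 C.F := by
  have key : ∀ a ∈ C.F, Odd (orderOf a) → a = 1 := by
    intro a ha o
    obtain ⟨hy, hy3, -⟩ := S.y_facts
    have h1 := C.odd_inverted ha o
    have ha' := C.conj_mem' hy ha
    have h2 := C.odd_inverted ha' (by
      rw [show (S.ψ yE)⁻¹ * a * S.ψ yE = (S.ψ yE)⁻¹ * a * (S.ψ yE)⁻¹⁻¹ by group, orderOf_conj']; exact o)
    have hee : (S.ψ eE)⁻¹ = S.ψ eE := inv_eq_of_mul_eq_one_right (by
      rw [← map_mul, xz_facts.2.2.2.2.2.2.2.2.2.1, map_one])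
    have h3 : S.ψ yE * S.ψ eE * (S.ψ yE)⁻¹ * S.ψ eE = S.ψ yE * S.ψ yE := by
      rw [← map_inv, ← map_mul, ← map_mul, ← map_mul, ← map_mul, fuse_facts.2.2.2.2.2.2.2]
    have hfix : S.ψ yE * S.ψ yE * a * (S.ψ yE * S.ψ yE)⁻¹ = a := by
      calc S.ψ yE * S.ψ yE * a * (S.ψ yE * S.ψ yE)⁻¹
          = S.ψ yE * S.ψ eE * (S.ψ yE)⁻¹ * (S.ψ eE * a * (S.ψ eE)⁻¹) * (S.ψ yE * S.ψ eE * (S.ψ yE)⁻¹)⁻¹ := by
            rw [← h3]; group
        _ = S.ψ yE * (S.ψ eE * ((S.ψ yE)⁻¹ * a * S.ψ yE) * (S.ψ eE)⁻¹)⁻¹ * (S.ψ yE)⁻¹ := by rw [h1]; group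
        _ = a := by rw [h2]; group
    have hay : a * (S.ψ yE * S.ψ yE) = S.ψ yE * S.ψ yE * a := (mul_inv_eq_iff_eq_mul.1 hfix).symm
    have hl := S.list_y2 a (C.comm_t ha) hay
    refine odd_one (S := S) o ?_
    have hkill : ∀ w : G, w * w * w = 1 → S.ψ tE * w ∈ C.F → w = 1 := fun w hw h =>
      C.order_three hw ((Subgroup.mul_mem_cancel_left _ C.tmem).1 h)
    have h4 : S.ψ yE * S.ψ yE * (S.ψ yE * S.ψ yE) = S.ψ yE := by
      rw [← map_mul, ← map_mul, fuse_facts.2.2.2.2.1]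
    simp only [List.mem_cons, List.not_mem_nil, or_false, h4] at hl
    rcases hl with e | e | e | e | e | e
    · exact Or.inl e
    · exact Or.inl (e.trans (C.order_three S.y_facts.2.2.2 (e ▸ ha)))
    · exact Or.inl (e.trans (C.order_three hy3 (e ▸ ha)))
    · exact Or.inr e
    · exact Or.inr (by rw [e, hkill _ S.y_facts.2.2.2 (e ▸ ha), mul_one])
    · exact Or.inr (by rw [e, hkill _ hy3 (e ▸ ha), mul_one])
  intro a
  obtain ⟨k, m, hm, he⟩ := Nat.exists_eq_two_pow_mul_odd (orderOf_pos a).ne'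
  refine ⟨k, Subtype.ext ?_⟩
  push_cast
  refine key _ (pow_mem a.2 _) ?_
  rw [← Subgroup.coe_pow, Subgroup.orderOf_coe, orderOf_pow, he, Nat.gcd_eq_right ⟨m, rfl⟩,
    Nat.mul_div_cancel_left _ (by positivity)]
  exact hm

end Cen

end Cfsg.Lib.AmalgamTwelve
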